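import Groth.Agent.H21Weil.Scheme
import Groth.Agent.H8Props.WeilRes.MorS
import Groth.Prelude.Def_Red

/-!
Schemes representing Weil restrictions: uniqueness, base change and finiteness properties.
-/

universe u

open CategoryTheory AlgebraicGeometry
open CategoryTheory.Limits
open Groth.Agent.H8Props.WeilRes

set_option backward.isDefEq.respectTransparency false
set_option backward.isDefEq.respectTransparency.types false

namespace Groth.Agent.H21Weil

/-- `R` with the universal map `u` is a Weil restriction of `X'` along `s` -/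
def IsWeil {S Z : Scheme.{u}} (s : Z ⟶ S) (X' : Over Z) (R : Over S) (u : (Over.pullback s).obj R ⟶ X') : Prop :=
  ∀ T : Over S, Function.Bijective fun h : T ⟶ R => (Over.pullback s).map h ≫ u

variable {S Z : Scheme.{u}} {s : Z ⟶ S} {X' : Over Z}

/-- the universal map of a natural family of bijections -/
theorem isWeil_of_equiv {R : Over S} (e : ∀ T : Over S, (T ⟶ R) ≃ ((Over.pullback s).obj T ⟶ X'))
    (he : ∀ (T W : Over S) (h : T ⟶ W) (g : W ⟶ R), e T (h ≫ g) = (Over.pullback s).map h ≫ e W g) :
    IsWeil s X' R (e R (𝟙 R)) := by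
  intro T
  convert (e T).bijective using 1
  funext h
  rw [← he T R h (𝟙 R), Category.comp_id]

/-- Weil restrictions are unique -/
theorem IsWeil.exists_iso {R R' : Over S} {u : (Over.pullback s).obj R ⟶ X'} {u' : (Over.pullback s).obj R' ⟶ X'}
    (h : IsWeil s X' R u) (h' : IsWeil s X' R' u') : ∃ φ : R ≅ R', (Over.pullback s).map φ.hom ≫ u' = u := by
  obtain ⟨a, ha⟩ := (h' R).2 u
  obtain ⟨b, hb⟩ := (h R').2 u'
  refine ⟨⟨a, b, (h R).1 ?_, (h' R').1 ?_⟩, ha⟩
  · simp only at ha hb ⊢
    rw [Functor.map_comp, Category.assoc, hb, ha, CategoryTheory.Functor.map_id, Category.id_comp]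
  · simp only at ha hb ⊢
    rw [Functor.map_comp, Category.assoc, ha, hb, CategoryTheory.Functor.map_id, Category.id_comp]

/-- Weil restrictions are stable under base change -/
theorem IsWeil.bc {R : Over S} {u : (Over.pullback s).obj R ⟶ X'} (h : IsWeil s X' R u) {U Z' : Scheme.{u}}
    {v : U ⟶ S} {i : Z' ⟶ Z} {s' : Z' ⟶ U} (sq : IsPullback s' i v s) :
    ∃ u', IsWeil s' ((Over.pullback i).obj X') ((Over.pullback v).obj R) u' := by
  let θ : ∀ T : Over U, (Over.map i).obj ((Over.pullback s').obj T) ≅ (Over.pullback s).obj ((Over.map v).obj T) :=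
    fun T => Over.isoMk (((IsPullback.of_hasPullback T.hom s').flip.paste_horiz sq.flip).flip.isoPullback)
      ((IsPullback.isoPullback_hom_snd _).trans rfl)
  have hθf : ∀ T, (θ T).hom.left ≫ pullback.fst ((Over.map v).obj T).hom s = pullback.fst T.hom s' :=
    fun T => IsPullback.isoPullback_hom_fst _
  have hθs : ∀ T, (θ T).hom.left ≫ pullback.snd ((Over.map v).obj T).hom s = pullback.snd T.hom s' ≫ i :=
    fun T => IsPullback.isoPullback_hom_snd _
  have hnat : ∀ {T T' : Over U} (k : T' ⟶ T),
      (Over.map i).map ((Over.pullback s').map k) ≫ (θ T).hom =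
        (θ T').hom ≫ (Over.pullback s).map ((Over.map v).map k) := by
    intro T T' k
    refine Over.OverMorphism.ext (pullback.hom_ext ?_ ?_)
    · rw [Over.comp_left, Over.comp_left, Category.assoc, Category.assoc, hθf,
        show ((Over.pullback s).map ((Over.map v).map k)).left ≫ pullback.fst _ s = pullback.fst _ s ≫ k.left from
          pullback.lift_fst _ _ _,
        ← Category.assoc (θ T').hom.left, hθf]
      exact pullback.lift_fst _ _ _
    · rw [Over.comp_left, Over.comp_left, Category.assoc, Category.assoc, hθs,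
        show ((Over.pullback s).map ((Over.map v).map k)).left ≫ pullback.snd _ s = pullback.snd _ s from
          pullback.lift_snd _ _ _, hθs]
      exact (Category.assoc _ _ _).symm.trans (congrArg (· ≫ i) (pullback.lift_snd _ _ _))
  let adj := Over.mapPullbackAdj v
  let adj' := Over.mapPullbackAdj i
  let R' := (Over.pullback v).obj R
  refine ⟨adj'.homEquiv _ _ ((θ R').hom ≫ (Over.pullback s).map (adj.counit.app R) ≫ u), fun T => ?_⟩
  have key : (fun k : T ⟶ R' => (Over.pullback s').map k ≫
      adj'.homEquiv _ _ ((θ R').hom ≫ (Over.pullback s).map (adj.counit.app R) ≫ u)) =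
      (adj'.homEquiv _ _ : _ → _) ∘ (fun m => (θ T).hom ≫ m) ∘ (fun k => (Over.pullback s).map k ≫ u) ∘
        ((adj.homEquiv T R).symm : _ → _) := by
    funext k
    simp only [Function.comp_apply]
    rw [← Adjunction.homEquiv_naturality_left, ← Category.assoc, hnat, Category.assoc]
    congr 1
    rw [Adjunction.homEquiv_counit, Functor.map_comp, Category.assoc]
  rw [key]
  refine (adj'.homEquiv _ _).bijective.comp (Function.Bijective.comp ?_ ((h _).comp (adj.homEquiv T R).symm.bijective))
  exact ⟨fun a b hab => (cancel_epi (θ T).hom).mp hab, fun m => ⟨(θ T).inv ≫ m, Iso.hom_inv_id_assoc _ _⟩⟩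

/-- Weil restriction along a finite flat morphism: existence over the base -/
theorem exists_isWeil_pullback [IsFinite s] [Flat s] [LocallyOfFinitePresentation s] (Y : Over S)
    [IsAffineHom Y.hom] :
    ∃ (R : Over S) (u : (Over.pullback s).obj R ⟶ (Over.pullback s).obj Y),
      IsAffineHom R.hom ∧ IsWeil s ((Over.pullback s).obj Y) R u := by
  obtain ⟨W, hW, ⟨E⟩⟩ := exists_isAffineHom_representableBy s Y.hom
  let adj := Over.mapPullbackAdj s
  let u₀ : (Over.map s).obj ((Over.pullback s).obj W) ⟶ Y := E.homEquiv (𝟙 W)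
  refine ⟨W, adj.homEquiv _ _ u₀, hW, fun T => ?_⟩
  have key : (fun h : T ⟶ W => (Over.pullback s).map h ≫ adj.homEquiv _ _ u₀) =
      (fun m : (Over.map s).obj ((Over.pullback s).obj T) ⟶ Y => adj.homEquiv _ _ m) ∘ (fun h => E.homEquiv h) := by
    funext h
    simp only [Function.comp_apply]
    rw [← Adjunction.homEquiv_naturality_left]
    congr 1
    have h2 := E.homEquiv_comp h (𝟙 W)
    rw [Category.comp_id] at h2
    exact h2.symm
  rw [key]
  exact (adj.homEquiv _ _).bijective.comp E.homEquiv.bijective

/-- finiteness properties of Weil restrictions along finite flat morphisms -/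
theorem IsWeil.props [IsFinite s] [Flat s] [LocallyOfFinitePresentation s] [IsAffineHom X'.hom]
    {R : Over S} {u : (Over.pullback s).obj R ⟶ X'} (h : IsWeil s X' R u) :
    IsAffineHom R.hom ∧ (LocallyOfFiniteType X'.hom → LocallyOfFiniteType R.hom) ∧
      (LocallyOfFinitePresentation X'.hom → LocallyOfFinitePresentation R.hom) := by
  classical
  have hloc : ∀ V : FreeOpens s, ∃ (v : Spec (CommRingCat.of Γ(S, V.1)) ⟶ S), IsOpenImmersion v ∧
      Set.range v.base = (V.1 : Set S) ∧ IsAffineHom (pullback.snd R.hom v) ∧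
      (LocallyOfFiniteType X'.hom → LocallyOfFiniteType (pullback.snd R.hom v)) ∧
      (LocallyOfFinitePresentation X'.hom → LocallyOfFinitePresentation (pullback.snd R.hom v)) := by
    rintro ⟨V, hV, ι, _, e, he⟩
    have hV' : IsAffineOpen (s ⁻¹ᵁ V) := hV.preimage s
    let A := Γ(S, V)
    let A' := Γ(Z, s ⁻¹ᵁ V)
    letI : Algebra A A' := (s.app V).hom.toAlgebra
    let b : Module.Basis ι A A' := Module.Basis.ofEquivFun (LinearEquiv.symm (LinearEquiv.ofBijective
      ({ toFun := fun r => ∑ k, r k • e k
         map_add' := fun r r' => by simp [add_smul, Finset.sum_add_distrib]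
         map_smul' := fun c r => by simp [Finset.smul_sum, smul_smul] } : (ι → A) →ₗ[A] A')
      (by
        convert he using 1
        funext r
        exact Finset.sum_congr rfl fun k _ => Algebra.smul_def (r k) (e k))))
    have : IsAffine (V : Scheme.{u}) := hV
    have : IsAffine ((s ⁻¹ᵁ V : Z.Opens) : Scheme.{u}) := hV'
    have hw : Spec.map (CommRingCat.ofHom (algebraMap A A')) ≫ hV.fromSpec = hV'.fromSpec ≫ s := by
      rw [← IsAffineOpen.SpecMap_appLE_fromSpec s hV hV' le_rfl]
      rw [Scheme.Hom.appLE_eq_app]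
      rfl
    have sq : IsPullback (Spec.map (CommRingCat.ofHom (algebraMap A A'))) hV'.fromSpec hV.fromSpec s := by
      refine IsPullback.flip (IsPullback.of_iso (isPullback_morphismRestrict s V).flip hV'.isoSpec (Iso.refl _)
        hV.isoSpec (Iso.refl _) ?_ ?_ ?_ ?_)
      · simp [← IsAffineOpen.isoSpec_inv_ι]
      · rw [← cancel_mono hV.isoSpec.inv, Category.assoc, Category.assoc, Iso.hom_inv_id, Category.comp_id,
          ← cancel_mono V.ι, morphismRestrict_ι, Category.assoc, Category.assoc, IsAffineOpen.isoSpec_inv_ι]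
        change _ = hV'.isoSpec.hom ≫ Spec.map (CommRingCat.ofHom (algebraMap A A')) ≫ hV.fromSpec
        rw [hw, ← IsAffineOpen.isoSpec_inv_ι hV', Category.assoc, Iso.hom_inv_id_assoc]
      · simp
      · simp [← IsAffineOpen.isoSpec_inv_ι]
    obtain ⟨u', hu'⟩ := h.bc sq
    let X'' := (Over.pullback hV'.fromSpec).obj X'
    haveI : IsAffineHom (pullback.snd X'.hom hV'.fromSpec) := MorphismProperty.pullback_snd (P := @IsAffineHom) _ _ inferInstance
    have : IsAffine X''.left := isAffine_of_isAffineHom (pullback.snd X'.hom hV'.fromSpec)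
    obtain ⟨W, w, hWa, hft, hfp, hw'⟩ := exists_weil b X''
    obtain ⟨φ, -⟩ := IsWeil.exists_iso hu' (R' := W) (u' := w) hw'
    have hφ : φ.hom.left ≫ W.hom = pullback.snd R.hom hV.fromSpec := Over.w φ.hom
    have : IsIso φ.hom.left := ⟨φ.inv.left, congrArg (fun m => m.left) φ.hom_inv_id,
      congrArg (fun m => m.left) φ.inv_hom_id⟩
    refine ⟨hV.fromSpec, inferInstance, hV.range_fromSpec, ?_, fun hX => ?_, fun hX => ?_⟩
    · rw [← hφ]
      have : IsAffine W.left := hWa
      have : IsAffineHom W.hom := isAffineHom_of_isAffine _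
      infer_instance
    · rw [← hφ]
      have := hft (MorphismProperty.pullback_snd (P := @LocallyOfFiniteType) _ _ hX)
      infer_instance
    · rw [← hφ]
      have := hfp (MorphismProperty.pullback_snd (P := @LocallyOfFinitePresentation) _ _ hX)
      infer_instance
  choose v hv hr ha hft hfp using hloc
  have hcov : ∀ (P : MorphismProperty Scheme.{u}) [IsZariskiLocalAtTarget P],
      (∀ V, P (pullback.snd R.hom (v V))) → P R.hom := by
    intro P _ hP
    refine (IsZariskiLocalAtTarget.iff_of_openCover (P := P)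
      (Scheme.Cover.mkOfCovers (FreeOpens s) (fun V => Spec (CommRingCat.of Γ(S, V.1))) v (fun x => ?_) hv)).mpr hP
    obtain ⟨V, hV, hxV, -⟩ := TopologicalSpace.Opens.isBasis_iff_nbhd.mp (isBasis_freeOpens s)
      (TopologicalSpace.Opens.mem_top x)
    have : x ∈ Set.range (v ⟨V, hV⟩).base := by rw [hr]; exact hxV
    obtain ⟨y, hy⟩ := this
    exact ⟨⟨V, hV⟩, y, hy⟩
  exact ⟨hcov @IsAffineHom ha, fun hX => hcov @LocallyOfFiniteType fun V => hft V hX,
    fun hX => hcov @LocallyOfFinitePresentation fun V => hfp V hX⟩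

end Groth.Agent.H21Weil
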