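import Mathlib

/-!
The universal point of a Weil restriction is smooth and surjective on spectra.
-/

universe u

open scoped TensorProduct

namespace Groth.Agent.H21Weil

/-- lifting a point compatibly with an evaluation -/
theorem exists_compat_lift {B' A X X₀ C C₀ : Type u} [CommRing B'] [CommRing A] [Algebra B' A]
    [Algebra.FormallySmooth B' A] [CommRing X] [Algebra B' X] [CommRing X₀] [Algebra B' X₀] [CommRing C]
    [Algebra B' C] [CommRing C₀] [Algebra B' C₀] (π : X →ₐ[B'] X₀) (μ : X →ₐ[B'] C) (μ₀ : X₀ →ₐ[B'] C₀)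
    (p : C →ₐ[B'] C₀) (hcomm : p.comp μ = μ₀.comp π) (hπ : Function.Surjective π)
    (hsq : RingHom.ker π ^ 2 = ⊥) (hker : ∀ c, p c = 0 → ∃ x, π x = 0 ∧ μ x = c)
    (φ₀ : A →ₐ[B'] X₀) (σ : A →ₐ[B'] C) (h : μ₀.comp φ₀ = p.comp σ) :
    ∃ φ : A →ₐ[B'] X, π.comp φ = φ₀ ∧ μ.comp φ = σ := by
  let Φ : X →ₐ[B'] X₀ × C := π.prod μ
  have hmem : ∀ a, (φ₀ a, σ a) ∈ Φ.range := by
    intro a
    obtain ⟨x, hx⟩ := hπ (φ₀ a)
    have : p (σ a - μ x) = 0 := by
      rw [map_sub, show p (μ x) = μ₀ (π x) from AlgHom.congr_fun hcomm x, hx,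
        show p (σ a) = μ₀ (φ₀ a) from (AlgHom.congr_fun h a).symm, sub_self]
    obtain ⟨y, hy, hy'⟩ := hker _ this
    refine ⟨x + y, Prod.ext ?_ ?_⟩
    · change π (x + y) = φ₀ a
      rw [map_add, hy, hx, add_zero]
    · change μ (x + y) = σ a
      rw [map_add, hy', add_sub_cancel]
  have hnil : IsNilpotent (RingHom.ker (Φ.rangeRestrict : X →+* Φ.range)) := by
    refine ⟨2, le_bot_iff.mp ((Ideal.pow_right_mono (fun x hx => ?_) 2).trans hsq.le)⟩
    exact congrArg (fun z : Φ.range => z.1.1) hx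
  let φ := Algebra.FormallySmooth.liftOfSurjective ((φ₀.prod σ).codRestrict Φ.range hmem) Φ.rangeRestrict
    Φ.rangeRestrict_surjective hnil
  have hφ : ∀ a, Φ (φ a) = (φ₀ a, σ a) := fun a => congrArg Subtype.val
    (Algebra.FormallySmooth.liftOfSurjective_apply ((φ₀.prod σ).codRestrict Φ.range hmem) Φ.rangeRestrict
      Φ.rangeRestrict_surjective hnil a)
  exact ⟨φ, AlgHom.ext fun a => congrArg Prod.fst (hφ a), AlgHom.ext fun a => congrArg Prod.snd (hφ a)⟩

/-- points of a smooth algebra in an artinian ring can be prescribed at the maximal ideals -/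
theorem exists_algHom_artinian {B' A C : Type u} [CommRing B'] [CommRing A] [Algebra B' A]
    [Algebra.FormallySmooth B' A] [CommRing C] [IsArtinianRing C] [Algebra B' C]
    (f : ∀ m : MaximalSpectrum C, A →ₐ[B'] C ⧸ m.asIdeal) :
    ∃ φ : A →ₐ[B'] C, ∀ m : MaximalSpectrum C, (Ideal.Quotient.mkₐ B' m.asIdeal).comp φ = f m := by
  let Ψ : C →ₐ[B'] ∀ m : MaximalSpectrum C, C ⧸ m.asIdeal :=
    AlgHom.pi fun m => Ideal.Quotient.mkₐ B' m.asIdeal
  have hsurj : Function.Surjective Ψ := by
    intro x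
    choose g hg using fun m => Ideal.Quotient.mk_surjective (x m)
    obtain ⟨c, hc⟩ := Ideal.exists_forall_sub_mem_ideal (I := fun m : MaximalSpectrum C => m.asIdeal)
      (fun i j hij => Ideal.isCoprime_iff_sup_eq.mpr
        (i.isMaximal.coprime_of_ne j.isMaximal fun h => hij (MaximalSpectrum.ext h))) g
    exact ⟨c, funext fun m => (Ideal.Quotient.eq.mpr (hc m)).trans (hg m)⟩
  have hnil : IsNilpotent (RingHom.ker Ψ.toRingHom) := by
    obtain ⟨n, hn⟩ := IsArtinianRing.isNilpotent_jacobson_bot (R := C)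
    refine ⟨n, le_bot_iff.mp ((Ideal.pow_right_mono (fun x hx => ?_) n).trans hn.le)⟩
    refine Ideal.mem_sInf.mpr fun m hm => ?_
    exact Ideal.Quotient.eq_zero_iff_mem.mp (congrFun hx ⟨m, hm.2⟩)
  refine ⟨Algebra.FormallySmooth.liftOfSurjective (AlgHom.pi f) Ψ hsurj hnil, fun m => AlgHom.ext fun a => ?_⟩
  exact congrFun (Algebra.FormallySmooth.liftOfSurjective_apply (AlgHom.pi f) Ψ hsurj hnil a) m

variable {B B' A RA : Type u} [CommRing B] [CommRing B'] [Algebra B B'] [CommRing A] [Algebra B' A]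
  [CommRing RA] [Algebra B RA]

/-- `q` is the universal point of a Weil restriction -/
def IsUniv (q : A →ₐ[B'] B' ⊗[B] RA) : Prop :=
  ∀ (D : Type u) [CommRing D] [Algebra B D] (φ : A →ₐ[B'] B' ⊗[B] D),
    ∃! θ : RA →ₐ[B] D, (Algebra.TensorProduct.map (AlgHom.id B' B') θ).comp q = φ

/-- evaluation of a point over `B'` -/
noncomputable def evPt (C : Type u) [CommRing C] [Algebra B C] [Algebra B' C] [IsScalarTower B B' C] :
    B' ⊗[B] C →ₐ[B'] C :=
  Algebra.TensorProduct.lift (Algebra.ofId B' C) (AlgHom.id B C) fun _ _ => Commute.all _ _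

theorem evPt_tmul (C : Type u) [CommRing C] [Algebra B C] [Algebra B' C] [IsScalarTower B B' C] (b : B') (c : C) :
    evPt C (b ⊗ₜ[B] c) = algebraMap B' C b * c := rfl

theorem IsUniv.formallySmooth [Algebra.FormallySmooth B' A] {q : A →ₐ[B'] B' ⊗[B] RA} (hq : IsUniv q) :
    q.toRingHom.FormallySmooth := by
  change @Algebra.FormallySmooth _ _ _ _ q.toRingHom.toAlgebra
  letI : Algebra A (B' ⊗[B] RA) := q.toRingHom.toAlgebra
  refine Algebra.FormallySmooth.of_comp_surjective fun C _ _ J hJ g => ?_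
  letI : Algebra B' C := Algebra.compHom C (algebraMap B' A)
  haveI : IsScalarTower B' A C := .of_algebraMap_eq fun _ => rfl
  letI : Algebra B C := Algebra.compHom C (algebraMap B B')
  haveI : IsScalarTower B B' C := .of_algebraMap_eq fun _ => rfl
  let θ₀ : RA →ₐ[B] C ⧸ J :=
    { g.toRingHom.comp Algebra.TensorProduct.includeRight.toRingHom with
      commutes' := fun b => by
        change g ((1 : B') ⊗ₜ[B] algebraMap B RA b) = _
        rw [show (1 : B') ⊗ₜ[B] algebraMap B RA b = algebraMap A _ (algebraMap B' A (algebraMap B B' b)) from ?_,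
          g.commutes]
        · rfl
        · change _ = q (algebraMap B' A (algebraMap B B' b))
          rw [q.commutes, Algebra.TensorProduct.algebraMap_apply, Algebra.algebraMap_self, RingHom.id_apply,
            Algebra.algebraMap_eq_smul_one (R := B) (A := RA), Algebra.algebraMap_eq_smul_one (R := B) (A := B'),
            TensorProduct.smul_tmul] }
  have hg : ∀ x, evPt (C ⧸ J) (Algebra.TensorProduct.map (AlgHom.id B' B') θ₀ x) = g x := by
    intro x
    induction x using TensorProduct.induction_on with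
    | zero => simp
    | tmul b r =>
      rw [Algebra.TensorProduct.map_tmul, evPt_tmul]
      change algebraMap B' (C ⧸ J) b * g ((1 : B') ⊗ₜ r) = _
      rw [show (b ⊗ₜ[B] r : B' ⊗[B] RA) = q (algebraMap B' A b) * ((1 : B') ⊗ₜ r) by
        rw [q.commutes, Algebra.TensorProduct.algebraMap_apply, Algebra.algebraMap_self, RingHom.id_apply,
          Algebra.TensorProduct.tmul_mul_tmul, mul_one, one_mul], map_mul]
      exact congrArg (· * _) (g.commutes (algebraMap B' A b)).symm
    | add x y hx hy => simp only [map_add, hx, hy]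
  have hsurj : Function.Surjective (Ideal.Quotient.mkₐ B J) := Ideal.Quotient.mk_surjective
  obtain ⟨φ, hφ, hφσ⟩ := exists_compat_lift (A := A)
    (Algebra.TensorProduct.map (AlgHom.id B' B') (Ideal.Quotient.mkₐ B J)) (evPt C) (evPt (C ⧸ J))
    (Ideal.Quotient.mkₐ B' J)
    (Algebra.TensorProduct.ext (AlgHom.ext fun b => by
        change _ = evPt (C ⧸ J) (Algebra.TensorProduct.map (AlgHom.id B' B') (Ideal.Quotient.mkₐ B J) (b ⊗ₜ 1))
        rw [Algebra.TensorProduct.map_tmul, evPt_tmul, map_one, mul_one]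
        change Ideal.Quotient.mk J (algebraMap B' C b * 1) = _
        rw [mul_one]; rfl)
      (AlgHom.ext fun c => by
        change Ideal.Quotient.mk J (evPt C ((1 : B') ⊗ₜ c)) =
          evPt (C ⧸ J) (Algebra.TensorProduct.map (AlgHom.id B' B') (Ideal.Quotient.mkₐ B J) ((1 : B') ⊗ₜ c))
        rw [evPt_tmul, Algebra.TensorProduct.map_tmul, evPt_tmul]
        simp only [map_one, one_mul, AlgHom.id_apply]
        rfl))
    (Algebra.TensorProduct.map_surjective _ _ (fun x => ⟨x, rfl⟩) hsurj)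
    (by
      rw [show RingHom.ker (Algebra.TensorProduct.map (AlgHom.id B' B') (Ideal.Quotient.mkₐ B J)) =
        J.map (Algebra.TensorProduct.includeRight : C →ₐ[B] B' ⊗[B] C) from ?_, ← Ideal.map_pow, hJ, Ideal.map_bot]
      refine Ideal.ext fun x => ?_
      have h1 := SetLike.ext_iff.mp (Algebra.TensorProduct.lTensor_ker (A := B') (Ideal.Quotient.mkₐ B J) hsurj) x
      have h2 : RingHom.ker (Ideal.Quotient.mkₐ B J) = J := Ideal.ext fun c => Ideal.Quotient.eq_zero_iff_mem
      rw [h2] at h1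
      exact h1)
    (fun c hc => ⟨(1 : B') ⊗ₜ c, by
      rw [Algebra.TensorProduct.map_tmul, show Ideal.Quotient.mkₐ B J c = 0 from hc, TensorProduct.tmul_zero],
      by rw [evPt_tmul, map_one, one_mul]⟩)
    ((Algebra.TensorProduct.map (AlgHom.id B' B') θ₀).comp q) (IsScalarTower.toAlgHom B' A C)
    (AlgHom.ext fun a => by
      change evPt (C ⧸ J) (Algebra.TensorProduct.map (AlgHom.id B' B') θ₀ (q a)) = _
      rw [hg]
      exact g.commutes a)
  obtain ⟨θ, hθ, -⟩ := hq C φ
  have hθ₀ : (Ideal.Quotient.mkₐ B J).comp θ = θ₀ := by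
    refine (hq (C ⧸ J) _).unique ?_ rfl
    rw [← hφ, ← hθ, ← AlgHom.comp_assoc, ← Algebra.TensorProduct.map_comp, AlgHom.id_comp]
  refine ⟨{ ((evPt C).comp (Algebra.TensorProduct.map (AlgHom.id B' B') θ)).toRingHom with
      commutes' := fun a => ?_ }, AlgHom.ext fun x => ?_⟩
  · change evPt C (Algebra.TensorProduct.map (AlgHom.id B' B') θ (q a)) = algebraMap A C a
    rw [← AlgHom.comp_apply (Algebra.TensorProduct.map _ θ), hθ]
    exact AlgHom.congr_fun hφσ a
  · rw [← hg x, ← hθ₀]
    change Ideal.Quotient.mk J (evPt C (Algebra.TensorProduct.map (AlgHom.id B' B') θ x)) = _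
    induction x using TensorProduct.induction_on with
    | zero => simp
    | tmul b r =>
      rw [Algebra.TensorProduct.map_tmul, Algebra.TensorProduct.map_tmul, evPt_tmul, evPt_tmul, map_mul]
      rfl
    | add x y hx hy => simp only [map_add, hx, hy]

theorem exists_point_field [Algebra.FiniteType B' A] (hA : Function.Surjective (PrimeSpectrum.comap (algebraMap B' A)))
    {K : Type u} [Field K] [IsAlgClosed K] [Algebra B' K] : Nonempty (A →ₐ[B'] K) := by
  have : Nontrivial (K ⊗[B'] A) := by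
    obtain ⟨p, hp⟩ := hA ⟨RingHom.ker (algebraMap B' K), RingHom.ker_isPrime _⟩
    have hp' : RingHom.ker (algebraMap B' K) = RingHom.ker (algebraMap B' p.asIdeal.ResidueField) := by
      rw [IsScalarTower.algebraMap_eq B' A p.asIdeal.ResidueField, ← RingHom.comap_ker,
        Ideal.ker_algebraMap_residueField]
      exact (congrArg PrimeSpectrum.asIdeal hp).symm
    let P : PrimeSpectrum B' := ⟨RingHom.ker (algebraMap B' K), RingHom.ker_isPrime _⟩
    have : P.asIdeal.IsPrime := P.isPrime
    let := (Ideal.ResidueField.lift P.asIdeal (algebraMap B' K) le_rfl fun x hx =>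
      isUnit_iff_ne_zero.mpr hx).toAlgebra
    let := (Ideal.ResidueField.lift P.asIdeal (algebraMap B' p.asIdeal.ResidueField) hp'.le fun x hx =>
      isUnit_iff_ne_zero.mpr fun h0 => hx (hp'.ge h0)).toAlgebra
    have : IsScalarTower B' P.asIdeal.ResidueField K := .of_algebraMap_eq fun x =>
      (Ideal.ResidueField.lift_algebraMap _ _ _ _ x).symm
    have : IsScalarTower B' P.asIdeal.ResidueField p.asIdeal.ResidueField := .of_algebraMap_eq fun x =>
      (Ideal.ResidueField.lift_algebraMap _ _ _ _ x).symm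
    exact (Algebra.TensorProduct.lift
      ((Algebra.TensorProduct.includeLeft : K →ₐ[K] K ⊗[P.asIdeal.ResidueField] p.asIdeal.ResidueField))
      (((Algebra.TensorProduct.includeRight :
          p.asIdeal.ResidueField →ₐ[P.asIdeal.ResidueField] K ⊗[P.asIdeal.ResidueField] p.asIdeal.ResidueField).restrictScalars
          B').comp (IsScalarTower.toAlgHom B' A p.asIdeal.ResidueField))
      fun _ _ => Commute.all _ _).toRingHom.domain_nontrivial
  obtain ⟨m, hm⟩ := Ideal.exists_maximal (K ⊗[B'] A)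
  let : Field (K ⊗[B'] A ⧸ m) := Ideal.Quotient.field m
  have : Module.Finite K (K ⊗[B'] A ⧸ m) := finite_of_finite_type_of_isJacobsonRing K _
  have hb : Function.Bijective (Algebra.ofId K (K ⊗[B'] A ⧸ m)) :=
    ⟨(algebraMap K _).injective, IsAlgClosed.algebraMap_bijective_of_isIntegral.2⟩
  exact ⟨((AlgEquiv.ofBijective _ hb).symm.toAlgHom.comp (Ideal.Quotient.mkₐ K m) |>.restrictScalars B').comp
    Algebra.TensorProduct.includeRight⟩

theorem IsUniv.surjective [Algebra.Smooth B' A] [Module.Finite B B']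
    (hA : Function.Surjective (PrimeSpectrum.comap (algebraMap B' A))) {q : A →ₐ[B'] B' ⊗[B] RA} (hq : IsUniv q) :
    Function.Surjective (PrimeSpectrum.comap q.toRingHom) := by
  intro p
  suffices key : ∀ (K : Type u) [Field K] [IsAlgClosed K] [Algebra A K], RingHom.ker (algebraMap A K) = p.asIdeal →
      p ∈ Set.range (PrimeSpectrum.comap q.toRingHom) from
    key (AlgebraicClosure p.asIdeal.ResidueField) (by
      rw [IsScalarTower.algebraMap_eq A p.asIdeal.ResidueField (AlgebraicClosure p.asIdeal.ResidueField),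
        RingHom.ker_comp_of_injective _ (algebraMap p.asIdeal.ResidueField _).injective,
        Ideal.ker_algebraMap_residueField])
  intro K _ _ _ hK
  letI : Algebra B' K := Algebra.compHom K (algebraMap B' A)
  haveI : IsScalarTower B' A K := IsScalarTower.of_algebraMap_eq' rfl
  letI : Algebra B K := Algebra.compHom K (algebraMap B B')
  haveI : IsScalarTower B B' K := .of_algebraMap_eq fun _ => rfl
  letI : Algebra K (B' ⊗[B] K) := (Algebra.TensorProduct.includeRight : K →ₐ[B] B' ⊗[B] K).toRingHom.toAlgebra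
  have : Module.Finite K (B' ⊗[B] K) := Module.Finite.equiv
    (AlgEquiv.ofRingEquiv (f := (Algebra.TensorProduct.comm B K B').toRingEquiv) fun x => rfl :
      K ⊗[B] B' ≃ₐ[K] B' ⊗[B] K).toLinearEquiv
  have : IsArtinianRing (B' ⊗[B] K) := isArtinian_of_tower K inferInstance
  have hm : ∀ m : MaximalSpectrum (B' ⊗[B] K), ∃ f : A →ₐ[B'] (B' ⊗[B] K) ⧸ m.asIdeal,
      m.asIdeal = RingHom.ker (evPt K) → ∀ a, f a = Ideal.Quotient.mk _ ((1 : B') ⊗ₜ[B] algebraMap A K a) := by
    intro m
    let := Ideal.Quotient.field m.asIdeal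
    have hb : Function.Bijective (Algebra.ofId K ((B' ⊗[B] K) ⧸ m.asIdeal)) :=
      ⟨(algebraMap K _).injective, IsAlgClosed.algebraMap_bijective_of_isIntegral.2⟩
    have : IsAlgClosed ((B' ⊗[B] K) ⧸ m.asIdeal) :=
      IsAlgClosed.of_ringEquiv K _ (AlgEquiv.ofBijective _ hb).toRingEquiv
    by_cases h : m.asIdeal = RingHom.ker (evPt K)
    · refine ⟨{ ((Ideal.Quotient.mk m.asIdeal).comp
          ((Algebra.TensorProduct.includeRight : K →ₐ[B] B' ⊗[B] K).toRingHom.comp (algebraMap A K))) with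
        commutes' := fun b => Ideal.Quotient.eq.mpr ?_ }, fun _ a => rfl⟩
      rw [h, RingHom.mem_ker, map_sub, AlgHom.commutes]
      change evPt K ((1 : B') ⊗ₜ[B] algebraMap B' K b) - algebraMap B' K b = 0
      rw [evPt_tmul, map_one, one_mul, sub_self]
    · exact ⟨(exists_point_field hA).some, fun h' => absurd h' h⟩
  choose f hf using hm
  obtain ⟨φ, hφ⟩ := exists_algHom_artinian f
  have hev : ∀ a, evPt K (φ a) = algebraMap A K a := by
    intro a
    let m₀ : MaximalSpectrum (B' ⊗[B] K) := ⟨RingHom.ker (evPt K), RingHom.ker_isMaximal_of_surjective _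
      fun x => ⟨(1 : B') ⊗ₜ x, by rw [evPt_tmul, map_one, one_mul]⟩⟩
    have h1 := Ideal.Quotient.eq.mp ((AlgHom.congr_fun (hφ m₀) a).trans (hf m₀ rfl a))
    rw [RingHom.mem_ker, map_sub, sub_eq_zero] at h1
    refine h1.trans ?_
    rw [evPt_tmul, map_one, one_mul]
  obtain ⟨θ, hθ, -⟩ := hq K φ
  let χ : B' ⊗[B] RA →+* K := ((evPt K).comp (Algebra.TensorProduct.map (AlgHom.id B' B') θ)).toRingHom
  refine ⟨⟨RingHom.ker χ, RingHom.ker_isPrime _⟩, PrimeSpectrum.ext ?_⟩
  change (RingHom.ker χ).comap q.toRingHom = p.asIdeal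
  rw [RingHom.comap_ker, show χ.comp q.toRingHom = algebraMap A K from RingHom.ext fun a =>
    (congrArg (evPt K) (AlgHom.congr_fun hθ a)).trans (hev a), hK]

theorem IsUniv.smooth [Algebra.Smooth B' A] [IsNoetherianRing B'] [Algebra.FiniteType B RA]
    {q : A →ₐ[B'] B' ⊗[B] RA} (hq : IsUniv q) : q.toRingHom.Smooth := by
  have h := hq.formallySmooth
  change @Algebra.Smooth _ _ _ _ q.toRingHom.toAlgebra
  change @Algebra.FormallySmooth _ _ _ _ q.toRingHom.toAlgebra at h
  letI : Algebra A (B' ⊗[B] RA) := q.toRingHom.toAlgebra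
  haveI : IsScalarTower B' A (B' ⊗[B] RA) := .of_algebraMap_eq fun b => (q.commutes b).symm
  have : IsNoetherianRing A := Algebra.FiniteType.isNoetherianRing B' A
  have : Algebra.FiniteType A (B' ⊗[B] RA) := Algebra.FiniteType.of_restrictScalars_finiteType B' A _
  exact ⟨h, Algebra.FinitePresentation.of_finiteType.mp this⟩

end Groth.Agent.H21Weil
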