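import Groth.Agent.H21Weil.Rep
import Groth.Agent.H21Weil.Smooth

/-!
The universal point of a Weil restriction of affine schemes, in terms of rings.
-/

universe u

open CategoryTheory AlgebraicGeometry
open CategoryTheory.Limits
open scoped TensorProduct

set_option backward.isDefEq.respectTransparency false
set_option backward.isDefEq.respectTransparency.types false

namespace Groth.Agent.H21Weil

/-- the spectrum of an algebra, over the spectrum of the base -/
noncomputable abbrev specO (R D : Type u) [CommRing R] [CommRing D] [Algebra R D] : Over (Spec (CommRingCat.of R)) :=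
  Over.mk (Spec.map (CommRingCat.ofHom (algebraMap R D)))

/-- the map of spectra of an algebra homomorphism -/
noncomputable def specMapO {R D E : Type u} [CommRing R] [CommRing D] [Algebra R D] [CommRing E] [Algebra R E]
    (θ : D →ₐ[R] E) : specO R E ⟶ specO R D :=
  Over.homMk (Spec.map (CommRingCat.ofHom θ.toRingHom)) (by
    change Spec.map _ ≫ Spec.map _ = Spec.map _
    rw [← Spec.map_comp, ← CommRingCat.ofHom_comp]
    congr 2
    exact θ.comp_algebraMap)

theorem specMapO_injective {R D E : Type u} [CommRing R] [CommRing D] [Algebra R D] [CommRing E] [Algebra R E] :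
    Function.Injective (specMapO : (D →ₐ[R] E) → _) := fun θ θ' h =>
  AlgHom.coe_ringHom_injective (congrArg CommRingCat.Hom.hom (Spec.map_injective
    (congrArg (fun m : specO R E ⟶ specO R D => m.left) h)))

theorem specMapO_surjective {R D E : Type u} [CommRing R] [CommRing D] [Algebra R D] [CommRing E] [Algebra R E] :
    Function.Surjective (specMapO : (D →ₐ[R] E) → _) := by
  intro h
  obtain ⟨φ, hφ⟩ := Spec.map_surjective h.left
  have hw : Spec.map φ ≫ Spec.map (CommRingCat.ofHom (algebraMap R D)) = Spec.map (CommRingCat.ofHom (algebraMap R E)) := by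
    rw [hφ]; exact Over.w h
  rw [← Spec.map_comp] at hw
  exact ⟨⟨φ.hom, fun r => RingHom.congr_fun (congrArg CommRingCat.Hom.hom (Spec.map_injective hw)) r⟩,
    Over.OverMorphism.ext hφ⟩

theorem specMapO_comp {R D E F : Type u} [CommRing R] [CommRing D] [Algebra R D] [CommRing E] [Algebra R E]
    [CommRing F] [Algebra R F] (θ : D →ₐ[R] E) (θ' : E →ₐ[R] F) :
    specMapO (θ'.comp θ) = specMapO θ' ≫ specMapO θ :=
  Over.OverMorphism.ext (by
    change Spec.map _ = Spec.map _ ≫ Spec.map _
    rw [← Spec.map_comp, ← CommRingCat.ofHom_comp]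
    rfl)

/-- an affine scheme over an affine base is the spectrum of an algebra -/
theorem exists_iso_specO {R : Type u} [CommRing R] (T : Over (Spec (CommRingCat.of R))) [IsAffine T.left] :
    ∃ (D : Type u) (_ : CommRing D) (_ : Algebra R D), Nonempty (T ≅ specO R D) := by
  obtain ⟨k, hk⟩ := Spec.map_surjective (T.left.isoSpec.inv ≫ T.hom)
  refine ⟨Γ(T.left, ⊤), inferInstance, k.hom.toAlgebra, ⟨Over.isoMk T.left.isoSpec ?_⟩⟩
  change T.left.isoSpec.hom ≫ Spec.map k = T.hom
  rw [hk, Iso.hom_inv_id_assoc]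

section

variable {B B' : Type u} [CommRing B] [CommRing B'] [Algebra B B']

/-- base change of a spectrum -/
noncomputable def rho (D : Type u) [CommRing D] [Algebra B D] :
    (bcs B B').obj (specO B D) ≅ specO B' (B' ⊗[B] D) :=
  Over.isoMk (pullbackSymmetry _ _ ≪≫ pullbackSpecIso B B' D) (by
    change (pullbackSymmetry _ _).hom ≫ (pullbackSpecIso B B' D).hom ≫ Spec.map _ = pullback.snd _ _
    rw [pullbackSpecIso_hom_fst', pullbackSymmetry_hom_comp_fst])

theorem rho_inv_fst (D : Type u) [CommRing D] [Algebra B D] :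
    (rho (B' := B') D).inv.left ≫ pullback.fst _ _ =
      Spec.map (CommRingCat.ofHom (Algebra.TensorProduct.includeRight : D →ₐ[B] B' ⊗[B] D).toRingHom) := by
  change ((pullbackSpecIso B B' D).inv ≫ (pullbackSymmetry _ _).inv) ≫ pullback.fst _ _ = _
  rw [Category.assoc, pullbackSymmetry_inv_comp_fst, pullbackSpecIso_inv_snd]
  rfl

theorem rho_inv_natural {D D' : Type u} [CommRing D] [Algebra B D] [CommRing D'] [Algebra B D'] (θ : D →ₐ[B] D') :
    (rho (B' := B') D').inv ≫ (bcs B B').map (specMapO θ) =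
      specMapO (Algebra.TensorProduct.map (AlgHom.id B' B') θ) ≫ (rho D).inv := by
  refine Over.OverMorphism.ext (pullback.hom_ext ?_ ?_)
  · rw [Over.comp_left, Over.comp_left, Category.assoc, Category.assoc,
      show ((bcs B B').map (specMapO θ)).left ≫ pullback.fst _ _ = pullback.fst _ _ ≫ (specMapO θ).left from
        pullback.lift_fst _ _ _,
      rho_inv_fst, ← Category.assoc, rho_inv_fst]
    change Spec.map _ ≫ Spec.map _ = Spec.map _ ≫ Spec.map _
    rw [← Spec.map_comp, ← Spec.map_comp, ← CommRingCat.ofHom_comp, ← CommRingCat.ofHom_comp]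
    congr 2
  · exact (Over.w ((rho (B' := B') D').inv ≫ (bcs B B').map (specMapO θ))).trans
      (Over.w (specMapO (Algebra.TensorProduct.map (AlgHom.id B' B') θ) ≫ (rho D).inv)).symm

theorem IsWeil.of_iso {S Z : Scheme.{u}} {s : Z ⟶ S} {X' X'' : Over Z} {R R' : Over S}
    {u : (Over.pullback s).obj R ⟶ X'} (h : IsWeil s X' R u) (i : R' ≅ R) (j : X' ≅ X'') :
    IsWeil s X'' R' ((Over.pullback s).map i.hom ≫ u ≫ j.hom) := by
  intro T
  convert ((Iso.homCongr (Iso.refl _) j).bijective.comp (h T)).comp (Iso.homCongr (Iso.refl T) i).bijective using 1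
  funext k
  simp

/-- the universal point of a Weil restriction, in rings -/
theorem exists_univ {X' : Over (Spec (CommRingCat.of B'))} [IsAffine X'.left] {R : Over (Spec (CommRingCat.of B))}
    [IsAffine R.left] {u : (bcs B B').obj R ⟶ X'}
    (h : IsWeil (Spec.map (CommRingCat.ofHom (algebraMap B B'))) X' R u) :
    ∃ (A RA : Type u) (_ : CommRing A) (_ : Algebra B' A) (_ : CommRing RA) (_ : Algebra B RA)
      (q : A →ₐ[B'] B' ⊗[B] RA) (i : R ≅ specO B RA) (j : X' ≅ specO B' A), IsUniv q ∧
        u = ((bcs B B').mapIso i ≪≫ rho RA).hom ≫ specMapO q ≫ j.inv := by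
  obtain ⟨RA, _, _, ⟨i⟩⟩ := exists_iso_specO R
  obtain ⟨A, _, _, ⟨j⟩⟩ := exists_iso_specO X'
  have h' := h.of_iso i.symm j
  obtain ⟨q, hq⟩ := specMapO_surjective ((rho RA).inv ≫ (bcs B B').map i.inv ≫ u ≫ j.hom)
  refine ⟨A, RA, _, _, _, _, q, i, j, fun D _ _ φ => ?_, ?_⟩
  · have hθ : ∀ θ : RA →ₐ[B] D, (Algebra.TensorProduct.map (AlgHom.id B' B') θ).comp q = φ ↔
        (bcs B B').map (specMapO θ) ≫ (bcs B B').map i.inv ≫ u ≫ j.hom = (rho D).hom ≫ specMapO φ := by
      intro θ
      rw [← specMapO_injective.eq_iff, specMapO_comp, hq, ← Category.assoc, ← rho_inv_natural, Category.assoc,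
        Iso.inv_comp_eq]
    obtain ⟨k, hk⟩ := (h' (specO B D)).2 ((rho D).hom ≫ specMapO φ)
    obtain ⟨θ, rfl⟩ := specMapO_surjective k
    refine ⟨θ, (hθ θ).mpr hk, fun θ' hθ' => specMapO_injective ((h' (specO B D)).1 ?_)⟩
    exact ((hθ θ').mp hθ').trans hk.symm
  · rw [hq]
    simp

end

end Groth.Agent.H21Weil
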