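import Groth.Agent.H21Diag.FpqcLocal
import Groth.Agent.H21Diag.Iso
import Groth.Agent.H21Weil.Univ
import Groth.Agent.H18Torsor.Basic
import Mathlib.AlgebraicGeometry.Morphisms.FlatDescent

/-!
A group without torsion of some invertible order contains no nontrivial subtorus.
-/

universe u

open CategoryTheory MonoidalCategory CartesianMonoidalCategory MonObj GrpObj AlgebraicGeometry
open CategoryTheory.Limits

set_option backward.isDefEq.respectTransparency false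
set_option backward.isDefEq.respectTransparency.types false

namespace Groth.Agent.H21Weil

theorem dpt_injective {U : Scheme.{u}} {M : Type} [AddCommGroup M] {B : Type u} [CommRing B]
    (y : Spec (CommRingCat.of B) ⟶ U) : Function.Injective (H21Diag.dpt (M := M) y) := by
  intro χ χ' h
  refine MonoidHom.ext fun m => ?_
  have h1 : Spec.map (CommRingCat.ofHom (H21Diag.charRingHom χ)) = Spec.map (CommRingCat.ofHom (H21Diag.charRingHom χ')) := by
    rw [← H21Diag.dpt_fst y χ, ← H21Diag.dpt_fst y χ', h]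
  have h2 := RingHom.congr_fun (congrArg CommRingCat.Hom.hom (Spec.map_injective h1)) (MonoidAlgebra.single m 1)
  simpa using h2

theorem exists_torsion_unit (Ω : Type u) [Field Ω] [IsAlgClosed Ω] :
    ∃ (ℓ : ℕ) (ζ : Ω), IsUnit (ℓ : Ω) ∧ ζ ^ ℓ = 1 ∧ ζ ≠ 1 := by
  have h : ∀ ℓ : ℕ, 1 < ℓ → (ℓ : Ω) ≠ 0 → ∃ (ℓ : ℕ) (ζ : Ω), IsUnit (ℓ : Ω) ∧ ζ ^ ℓ = 1 ∧ ζ ≠ 1 := by
    intro ℓ hℓ h0
    have : NeZero (ℓ : Ω) := ⟨h0⟩
    obtain ⟨ζ, hζ⟩ := IsAlgClosed.exists_root (Polynomial.cyclotomic ℓ Ω)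
      (Polynomial.degree_cyclotomic_pos ℓ Ω (by omega)).ne'
    have hp := Polynomial.isRoot_cyclotomic_iff.mp hζ
    exact ⟨ℓ, ζ, isUnit_iff_ne_zero.mpr h0, hp.pow_eq_one, hp.ne_one hℓ⟩
  by_cases h2 : ((2 : ℕ) : Ω) = 0
  · refine h 3 (by norm_num) fun h3 => one_ne_zero (α := Ω) ?_
    push_cast at h2 h3
    linear_combination h3 - h2
  · exact h 2 (by norm_num) h2

/-- a group scheme over an algebraically closed field without invertible torsion has no subtorus -/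
theorem hasNoSubtorus_of_torsion {Ω : Type u} [Field Ω] [IsAlgClosed Ω] (K : Over (Spec (CommRingCat.of Ω))) [GrpObj K]
    (hK : ∀ (D : Type u) [CommRing D] [Algebra Ω D] (ℓ : ℕ) (x : specO Ω D ⟶ K),
      IsUnit (ℓ : D) → x ^ ℓ = 1 → x = 1) : Red.HasNoSubtorus Ω K := by
  intro T _ j _ _ hT
  obtain ⟨ℓ, ζ, hℓ, hζ, hζ1⟩ := exists_torsion_unit Ω
  obtain ⟨S', f, hfl, hs, hqc, hloc⟩ := hT
  refine H21Diag.of_fpqc_cover_base (MorphismProperty.isomorphisms Scheme.{u}) f hqc T.hom fun s' => ?_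
  obtain ⟨U, hsU, r, ⟨e⟩⟩ := hloc s'
  refine ⟨U, hsU, ?_⟩
  have hr : r = 0 := by
    by_contra hr
    obtain ⟨V, hV, hsV, hVU⟩ := exists_isAffineOpen_mem_and_subset (U := U) (x := s') hsU
    let D := Γ(S', V)
    have : Nonempty (V : Scheme.{u}) := ⟨⟨s', hsV⟩⟩
    have : Nonempty (Spec D) := ⟨hV.isoSpec.hom.base ⟨s', hsV⟩⟩
    have : Nontrivial D := PrimeSpectrum.nontrivial (Classical.arbitrary (Spec D))
    let y : Spec (CommRingCat.of D) ⟶ (U : Scheme.{u}) := hV.isoSpec.inv ≫ S'.homOfLE hVU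
    obtain ⟨a, ha⟩ := Spec.map_surjective (y ≫ U.ι ≫ f)
    letI : Algebra Ω D := a.hom.toAlgebra
    have ha' : Spec.map (CommRingCat.ofHom (algebraMap Ω D)) = y ≫ U.ι ≫ f := ha
    let u : (D : Type u)ˣ := Units.map (algebraMap Ω D : Ω →* D) (IsUnit.unit (IsUnit.of_pow_eq_one hζ (by
      rintro rfl; simp at hℓ)))
    have hu : u ^ ℓ = 1 := Units.ext (by
      change (algebraMap Ω D ζ) ^ ℓ = 1
      rw [← map_pow, hζ, map_one])
    let i₀ : Fin r := ⟨0, Nat.pos_of_ne_zero hr⟩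
    let χ : Multiplicative (Fin r → ℤ) →* (D : Type u) :=
      (Units.coeHom _).comp ((zpowersHom _ u).comp
        (AddMonoidHom.toMultiplicative (Pi.evalAddMonoidHom (fun _ : Fin r => ℤ) i₀)))
    have hχℓ : χ ^ ℓ = 1 := MonoidHom.ext fun m => by
      change ((u ^ (m.toAdd i₀) : (D : Type u)ˣ) : (D : Type u)) ^ ℓ = 1
      rw [← Units.val_pow_eq_pow_val, ← zpow_natCast, ← zpow_mul, _root_.mul_comm, zpow_mul, zpow_natCast, hu, one_zpow]
      rfl
    let ψ : (Multiplicative (Fin r → ℤ) →* (D : Type u)) →* (Over.mk (y ≫ U.ι ≫ f) ⟶ T) :=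
      MonoidHom.mk' (H21Diag.gpt e y) (H21Diag.gpt_mul e y)
    have hψinj : Function.Injective ψ := by
      intro c c' h
      refine dpt_injective y ?_
      have h1 := (H21Diag.bcEquiv (U.ι ≫ f) T (Over.mk y)).symm.injective h
      have he : e.inv.hom.hom ≫ e.hom.hom.hom = 𝟙 _ := congrArg (fun f => f.hom.hom) e.inv_hom_id
      have h2 := congrArg (· ≫ e.hom.hom.hom) h1
      simp only [Category.assoc, he, Category.comp_id] at h2
      exact h2
    let ν : specO Ω D ⟶ Over.mk (y ≫ U.ι ≫ f) := Over.homMk (𝟙 _) (by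
      change 𝟙 _ ≫ y ≫ U.ι ≫ f = _
      rw [Category.id_comp, ← ha']; rfl)
    have : IsIso ν := by
      have : IsIso ((Over.forget _).map ν) := (inferInstance : IsIso (𝟙 (Spec (CommRingCat.of D))))
      exact isIso_of_reflects_iso _ (Over.forget _)
    have h1 : ν ≫ ψ χ ≫ j = 1 := hK D ℓ _ (by simpa using hℓ.map (algebraMap Ω D)) (by
      rw [← MonObj.comp_pow, ← MonObj.pow_comp, ← map_pow, hχℓ, map_one, MonObj.one_comp, MonObj.comp_one])
    have h2 : ψ χ = 1 := by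
      rw [← cancel_mono j, MonObj.one_comp, ← cancel_epi ν, h1, MonObj.comp_one]
    have h3 : χ = 1 := hψinj (h2.trans (map_one ψ).symm)
    have h4 := DFunLike.congr_fun h3 (Multiplicative.ofAdd (Pi.single i₀ (1 : ℤ)))
    change ((u ^ ((Pi.single i₀ (1 : ℤ) : Fin r → ℤ) i₀) : (D : Type u)ˣ) : (D : Type u)) = 1 at h4
    rw [Pi.single_eq_same, zpow_one] at h4
    exact hζ1 ((algebraMap Ω D).injective (h4.trans (map_one _).symm))
  subst hr
  have hM : IsIso (Red.DS (U : Scheme.{u}) (Fin 0 → ℤ)).hom := by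
    have hd : IsIso (Red.diag (ULift.{u} ℤ) (Fin 0 → ℤ)).hom := by
      change IsIso (Spec.map (CommRingCat.ofHom (algebraMap (ULift.{u} ℤ) (MonoidAlgebra (ULift.{u} ℤ) (Multiplicative (Fin 0 → ℤ))))))
      let g := MonoidAlgebra.lift (ULift.{u} ℤ) (ULift.{u} ℤ) (Multiplicative (Fin 0 → ℤ)) 1
      refine isIso_SpecMap_iff.mpr ⟨fun a b hab => (g.commutes a).symm.trans ((congrArg g hab).trans (g.commutes b)),
        fun x => ⟨g x, ?_⟩⟩
      change ((Algebra.ofId (ULift.{u} ℤ) (MonoidAlgebra (ULift.{u} ℤ) (Multiplicative (Fin 0 → ℤ)))).comp g) x = x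
      refine AlgHom.congr_fun (φ₂ := AlgHom.id _ _) ((MonoidAlgebra.lift (ULift.{u} ℤ) (MonoidAlgebra (ULift.{u} ℤ) (Multiplicative (Fin 0 → ℤ))) (Multiplicative (Fin 0 → ℤ))).symm.injective (MonoidHom.ext fun m => ?_)) x
      rw [Subsingleton.elim m 1, map_one, map_one]
    exact (inferInstance : IsIso (pullback.snd (Red.diag (ULift.{u} ℤ) (Fin 0 → ℤ)).hom (specULiftZIsTerminal.from (U : Scheme.{u}))))
  change IsIso (pullback.snd T.hom (U.ι ≫ f))
  have hw : e.hom.hom.hom.left ≫ (Red.DS (U : Scheme.{u}) (Fin 0 → ℤ)).hom = pullback.snd T.hom (U.ι ≫ f) :=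
    Over.w e.hom.hom.hom
  have : IsIso e.hom.hom.hom.left :=
    ⟨e.inv.hom.hom.left, congrArg (fun f => f.hom.hom.left) e.hom_inv_id, congrArg (fun f => f.hom.hom.left) e.inv_hom_id⟩
  rw [← hw]
  infer_instance

end Groth.Agent.H21Weil
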