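import Groth.Agent.H19Chev.UnipotentIsogeny
import Groth.Agent.H20Semi.Points
import Groth.Agent.H21Diag.Points
import Groth.Agent.H21Diag.BaseChange

/-!
Absence of subtori is stable under extension of algebraically closed fields.
-/

set_option autoImplicit false
set_option linter.style.haveILetI false
set_option backward.isDefEq.respectTransparency false
set_option synthInstance.maxHeartbeats 400000

universe u

open CategoryTheory CategoryTheory.Limits MonoidalCategory CartesianMonoidalCategory MonObj AlgebraicGeometry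
open Groth.Agent.H27Witt H20Mu H20Conj

noncomputable section

namespace Groth.Agent.H21Weil

/-- Affine smooth connected groups without subtori keep none over a larger algebraically closed field. -/
theorem hasNoSubtorus_bc_ext {k Ω : Type u} [Field k] [IsAlgClosed k] [Field Ω] [IsAlgClosed Ω]
    (U : Over (Spec (CommRingCat.of k))) [GrpObj U] [IsAffine U.left] [Smooth U.hom] [ConnectedSpace ↥U.left]
    (hU : Red.HasNoSubtorus k U) (z : Spec (CommRingCat.of Ω) ⟶ Spec (CommRingCat.of k)) :
    Red.HasNoSubtorus Ω (Red.bc z U) := by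
  obtain ⟨ℓ, hℓ, hℓΩ⟩ := H19Chev.UnipotentIsogeny.exists_prime_ne_zero (K := Ω)
  have hℓk : (ℓ : k) ≠ 0 := fun h => hℓΩ (by
    rw [← map_natCast (Spec.preimage z).hom ℓ, h, map_zero])
  haveI : IsFinite (𝟙 (Red.bc z U) : Red.bc z U ⟶ Red.bc z U).left := inferInstanceAs (IsFinite (𝟙 (Red.bc z U).left))
  refine H19Chev.UnipotentIsogeny.hasNoSubtorus_of_finite_hom (𝟙 (Red.bc z U)) ℓ hℓ hℓΩ fun y hy => ?_
  let P : Over (Spec (CommRingCat.of k)) := (Over.map z).obj (𝟙_ _)
  haveI : IsAffine P.left := inferInstanceAs (IsAffine (Spec (CommRingCat.of Ω)))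
  let r : Fn P ≃+* Ω := (Scheme.ΓSpecIso (CommRingCat.of Ω)).commRingCatIsoToRingEquiv
  letI : Algebra k Ω := ((r : Fn P →+* Ω).comp (algebraMap k (Fn P))).toAlgebra
  let q : Fn P ≃ₐ[k] Ω := AlgEquiv.ofRingEquiv (f := r) fun c => rfl
  let φ : (𝟙_ _ ⟶ Red.bc z U) →* (P ⟶ U) :=
    MonoidHom.mk' (H21Diag.bcEquiv z U (𝟙_ _)).symm (H21Diag.bcEquiv_symm_mul z U _)
  have h1 : φ y = 1 := H20Semi.eq_one_of_pow_eq_one q
    (fun g hg => H19Chev.UnipotentIsogeny.eq_one_of_pow_eq_one hU ℓ hℓk g hg) (φ y) (by rw [← map_pow, hy, map_one])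
  exact (H21Diag.bcEquiv z U (𝟙_ _)).symm.injective (h1.trans (map_one φ).symm)

theorem exists_geomPt_comp {S S' : Scheme.{u}} (f : S' ⟶ S) (s : S') :
    ∃ z : Spec (CommRingCat.of (AlgebraicClosure (S'.residueField s))) ⟶
        Spec (CommRingCat.of (AlgebraicClosure (S.residueField (f s)))),
      z ≫ Red.geomPt (f s) = Red.geomPt s ≫ f := by
  let k₁ := S.residueField (f s)
  let K₁ := S'.residueField s
  let Ω := AlgebraicClosure K₁
  letI : Algebra k₁ Ω := ((algebraMap K₁ Ω).comp (f.residueFieldMap s).hom).toAlgebra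
  let a : AlgebraicClosure k₁ →ₐ[k₁] Ω := IsAlgClosed.lift
  refine ⟨Spec.map (CommRingCat.ofHom a.toRingHom), ?_⟩
  unfold Red.geomPt
  rw [Category.assoc (Spec.map _) _ f, ← Scheme.Hom.SpecMap_residueFieldMap_fromSpecResidueField f s,
    ← Category.assoc, ← Category.assoc]
  congr 1
  change Spec.map _ ≫ Spec.map _ = Spec.map _ ≫ Spec.map _
  rw [← Spec.map_comp, ← Spec.map_comp]
  congr 1
  ext x
  exact a.commutes x

theorem hasNoSubtorus_of_grpIso {K : Type u} [Field K] {A B : Over (Spec (CommRingCat.of K))} [GrpObj A] [GrpObj B]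
    (e : Grp.mk A ≅ Grp.mk B) (h : Red.HasNoSubtorus K A) : Red.HasNoSubtorus K B := by
  intro T _ j _ _ hT
  haveI : IsMonHom e.inv.hom.hom := inferInstanceAs (IsMonHom e.inv.hom.hom)
  haveI : IsIso e.inv.hom.hom := ⟨e.hom.hom.hom, congrArg (fun k => k.hom.hom) e.inv_hom_id,
    congrArg (fun k => k.hom.hom) e.hom_inv_id⟩
  haveI : IsMonHom (j ≫ e.inv.hom.hom) := inferInstance
  exact h T (j ≫ e.inv.hom.hom) hT

/-- Absence of subtori in geometric fibres is stable under base change. -/
theorem hasNoSubtorus_geomFibre_bc {S S' : Scheme.{u}} (f : S' ⟶ S) (U : Over S) [GrpObj U] [IsAffineHom U.hom]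
    [Smooth U.hom] [GeometricallyConnected U.hom] (s : S')
    (h : Red.HasNoSubtorus (AlgebraicClosure (S.residueField (f s))) (Red.geomFibre (f s) U)) :
    Red.HasNoSubtorus (AlgebraicClosure (S'.residueField s)) (Red.geomFibre s (Red.bc f U)) := by
  obtain ⟨z, hz⟩ := exists_geomPt_comp f s
  let W := Red.geomFibre (f s) U
  haveI : GeometricallyConnected W.hom := inferInstanceAs (GeometricallyConnected (pullback.snd U.hom (Red.geomPt (f s))))
  haveI : Smooth W.hom := inferInstanceAs (Smooth (pullback.snd U.hom (Red.geomPt (f s))))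
  haveI : IsAffineHom W.hom := inferInstanceAs (IsAffineHom (pullback.snd U.hom (Red.geomPt (f s))))
  haveI : IsAffine W.left := isAffine_of_isAffineHom W.hom
  haveI : ConnectedSpace ↥W.left := GeometricallyConnected.connectedSpace_of_subsingleton (f := W.hom)
  exact hasNoSubtorus_of_grpIso
    ((H21Diag.bcCompIso z (Red.geomPt (f s)) U).symm ≪≫ H21Diag.bcCongrIso hz U ≪≫
      H21Diag.bcCompIso (Red.geomPt s) f U)
    (hasNoSubtorus_bc_ext W h z)

end Groth.Agent.H21Weil
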