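import Mathlib

/-!
The left adjoint of base change along a finite free algebra, with its finiteness properties.
-/

universe u

open scoped TensorProduct
open MvPolynomial

namespace Groth.Agent.H21Weil

variable (A A' C : Type u) [CommRing A] [CommRing A'] [Algebra A A'] [CommRing C] [Algebra A' C]

/-- compatibility of a map into a base changed algebra with the structure maps -/
def IsPt {D : Type u} [CommRing D] [Algebra A D] (φ : C →+* D ⊗[A] A') : Prop :=
  ∀ a : A', φ (algebraMap A' C a) = 1 ⊗ₜ[A] a

variable {A A'} in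
/-- evaluation of a polynomial over the base change at a family of coordinates -/
noncomputable def evCoord {D : Type u} [CommRing D] [Algebra A D] {σ ι : Type u} [Fintype ι] (b : Module.Basis ι A A')
    (v : σ × ι → D) : MvPolynomial σ A' →+* D ⊗[A] A' :=
  MvPolynomial.eval₂Hom (Algebra.TensorProduct.includeRight.toRingHom) fun i => ∑ k, v (i, k) ⊗ₜ[A] b k

theorem evCoord_comp {D E : Type u} [CommRing D] [Algebra A D] [CommRing E] [Algebra A E] {σ ι : Type u} [Fintype ι]
    (b : Module.Basis ι A A') (v : σ × ι → D) (θ : D →ₐ[A] E) :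
    (Algebra.TensorProduct.map θ (AlgHom.id A A')).toRingHom.comp (evCoord b v) = evCoord b fun p => θ (v p) := by
  refine MvPolynomial.ringHom_ext (fun a => ?_) fun i => ?_
  · simp [evCoord]
  · simp [evCoord, map_sum]

theorem coeff_map {D E : Type u} [CommRing D] [Algebra A D] [CommRing E] [Algebra A E] {ι : Type u}
    (b : Module.Basis ι A A') (θ : D →ₐ[A] E) (z : D ⊗[A] A') (k : ι) :
    (Algebra.TensorProduct.basis E b).repr (Algebra.TensorProduct.map θ (AlgHom.id A A') z) k =
      θ ((Algebra.TensorProduct.basis D b).repr z k) := by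
  induction z using TensorProduct.induction_on with
  | zero => simp
  | tmul d a => simp [Algebra.TensorProduct.basis_repr_tmul]
  | add z z' hz hz' => simp [hz, hz']

/-- the adjoint algebra of base change, with its universal point -/
theorem exists_adjoint {ι : Type u} [Finite ι] (b : Module.Basis ι A A') :
    ∃ (RA : Type u) (_ : CommRing RA) (_ : Algebra A RA) (u₀ : C →+* RA ⊗[A] A'), IsPt A A' C u₀ ∧
      (∀ (D : Type u) [CommRing D] [Algebra A D] (φ : C →+* D ⊗[A] A'), IsPt A A' C φ →
        ∃! θ : RA →ₐ[A] D, (Algebra.TensorProduct.map θ (AlgHom.id A A')).toRingHom.comp u₀ = φ) ∧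
      (Algebra.FiniteType A' C → Algebra.FiniteType A RA) ∧
      (Algebra.FinitePresentation A' C → Algebra.FinitePresentation A RA) := by
  classical
  have : Fintype ι := Fintype.ofFinite ι
  suffices key : ∀ {σ : Type u} (π : MvPolynomial σ A' →ₐ[A'] C), Function.Surjective π →
      ∀ F : Set (MvPolynomial σ A'), Ideal.span F = RingHom.ker π →
      ∃ (RA : Type u) (_ : CommRing RA) (_ : Algebra A RA) (u₀ : C →+* RA ⊗[A] A'), IsPt A A' C u₀ ∧
        (∀ (D : Type u) [CommRing D] [Algebra A D] (φ : C →+* D ⊗[A] A'), IsPt A A' C φ →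
          ∃! θ : RA →ₐ[A] D, (Algebra.TensorProduct.map θ (AlgHom.id A A')).toRingHom.comp u₀ = φ) ∧
        (Finite σ → Algebra.FiniteType A RA) ∧
        (Finite σ → F.Finite → Algebra.FinitePresentation A RA) by
    by_cases hfp : Algebra.FinitePresentation A' C
    · obtain ⟨n, π, hπ, hker⟩ := hfp.out
      obtain ⟨G, hG⟩ := hker
      let e : MvPolynomial (ULift.{u} (Fin n)) A' ≃ₐ[A'] MvPolynomial (Fin n) A' :=
        MvPolynomial.renameEquiv A' Equiv.ulift
      obtain ⟨RA, i₁, i₂, u₀, h1, h2, h3, h4⟩ := key (π.comp e.toAlgHom) (hπ.comp e.surjective)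
        (G.image e.symm : Finset _) (by
          rw [Finset.coe_image]
          refine (Ideal.map_span e.symm.toRingEquiv.toRingHom (G : Set (MvPolynomial (Fin n) A'))).symm.trans ?_
          rw [show Ideal.span (G : Set (MvPolynomial (Fin n) A')) = RingHom.ker π from hG]
          refine le_antisymm (Ideal.map_le_iff_le_comap.mpr fun x hx => ?_) fun x hx => ?_
          · rw [Ideal.mem_comap, RingHom.mem_ker]
            change π (e (e.symm x)) = 0
            rw [e.apply_symm_apply]
            exact hx
          · rw [show x = e.symm (e x) from (e.symm_apply_apply x).symm]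
            exact Ideal.mem_map_of_mem _ hx)
      exact ⟨RA, i₁, i₂, u₀, h1, h2, fun _ => h3 inferInstance, fun _ => h4 inferInstance (Finset.finite_toSet _)⟩
    by_cases hft : Algebra.FiniteType A' C
    · obtain ⟨n, π, hπ⟩ := Algebra.FiniteType.iff_quotient_mvPolynomial''.mp hft
      let e : MvPolynomial (ULift.{u} (Fin n)) A' ≃ₐ[A'] MvPolynomial (Fin n) A' :=
        MvPolynomial.renameEquiv A' Equiv.ulift
      obtain ⟨RA, i₁, i₂, u₀, h1, h2, h3, -⟩ := key (π.comp e.toAlgHom) (hπ.comp e.surjective) _
        (Ideal.span_eq _)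
      exact ⟨RA, i₁, i₂, u₀, h1, h2, fun _ => h3 inferInstance, fun h => absurd h hfp⟩
    obtain ⟨RA, i₁, i₂, u₀, h1, h2, -, -⟩ := key (MvPolynomial.aeval (id : C → C))
      (fun c => ⟨X c, aeval_X _ _⟩) _ (Ideal.span_eq _)
    exact ⟨RA, i₁, i₂, u₀, h1, h2, fun h => absurd h hft, fun h => absurd h hfp⟩
  intro σ π hπ F hF
  let P := MvPolynomial (σ × ι) A
  let bP := Algebra.TensorProduct.basis P b
  let rels : Set P := Set.range fun p : F × ι => bP.repr (evCoord b X p.1.1) p.2
  let RA := P ⧸ Ideal.span rels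
  let q : P →ₐ[A] RA := Ideal.Quotient.mkₐ A (Ideal.span rels)
  let x : σ × ι → RA := fun p => q (X p)
  have hcoe : ∀ {D : Type u} [CommRing D] [Algebra A D] (θ : P →ₐ[A] D) (z : MvPolynomial σ A'),
      Algebra.TensorProduct.map θ (AlgHom.id A A') (evCoord b X z) = evCoord b (fun p => θ (X p)) z := fun θ z =>
    RingHom.congr_fun (evCoord_comp A A' b X θ) z
  have hzero : ∀ z, π z = 0 → evCoord b x z = 0 := by
    intro z hz
    have hz' : z ∈ Ideal.span F := by rw [hF]; exact hz
    refine (RingHom.mem_ker).mp ((Ideal.span_le.mpr fun w hw => ?_) hz')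
    rw [SetLike.mem_coe, RingHom.mem_ker, ← hcoe q]
    refine (Algebra.TensorProduct.basis RA b).repr.injective (Finsupp.ext fun k => ?_)
    rw [coeff_map, map_zero, Finsupp.zero_apply]
    exact Ideal.Quotient.eq_zero_iff_mem.mpr (Ideal.subset_span ⟨(⟨w, hw⟩, k), rfl⟩)
  choose s hs using hπ
  have hu : ∀ z, evCoord b x z = evCoord b x (s (π z)) := fun z => sub_eq_zero.mp (by
    rw [← map_sub]; exact hzero _ (by rw [map_sub, hs, sub_self]))
  let u₀ : C →+* RA ⊗[A] A' :=
    { toFun := fun c => evCoord b x (s c)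
      map_one' := by
        rw [show (1 : C) = π 1 from (map_one π).symm, ← hu, map_one]
      map_mul' := fun c c' => by
        rw [← map_mul, hu (s c * s c'), map_mul π, hs, hs]
      map_zero' := by rw [show (0 : C) = π 0 from (map_zero π).symm, ← hu, map_zero]
      map_add' := fun c c' => by
        rw [← map_add, hu (s c + s c'), map_add π, hs, hs] }
  have huπ : ∀ z, u₀ (π z) = evCoord b x z := fun z => (hu z).symm
  have hpt : IsPt A A' C u₀ := fun a => by
    rw [show algebraMap A' C a = π (MvPolynomial.C a) from (π.commutes a).symm, huπ]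
    simp [evCoord]
  refine ⟨RA, inferInstance, inferInstance, u₀, hpt, fun D _ _ φ hφ => ?_, fun hσ => ?_, fun hσ hFf => ?_⟩
  · let bD := Algebra.TensorProduct.basis D b
    let v : σ × ι → D := fun p => bD.repr (φ (π (X p.1))) p.2
    let θ₁ : P →ₐ[A] D := MvPolynomial.aeval v
    have hθX : ∀ p, θ₁ (X p) = v p := fun p => MvPolynomial.aeval_X _ _
    have hφπ : φ.comp π.toRingHom = evCoord b v := by
      refine MvPolynomial.ringHom_ext (fun a => ?_) fun i => ?_
      · rw [RingHom.comp_apply, show π.toRingHom (MvPolynomial.C a) = algebraMap A' C a from π.commutes a, hφ]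
        simp [evCoord]
      · refine (bD.sum_repr (φ (π (X i)))).symm.trans ?_
        simp [evCoord, v, bD, TensorProduct.smul_tmul']
    have hker : ∀ r ∈ Ideal.span rels, θ₁ r = 0 := by
      intro r hr
      refine RingHom.mem_ker.mp ((Ideal.span_le.mpr ?_ : Ideal.span rels ≤ RingHom.ker θ₁) hr)
      rintro _ ⟨⟨⟨w, hw⟩, k⟩, rfl⟩
      rw [SetLike.mem_coe, RingHom.mem_ker]
      change θ₁ ((Algebra.TensorProduct.basis P b).repr (evCoord b X w) k) = 0
      rw [← coeff_map, hcoe]
      simp only [hθX]
      rw [← hφπ]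
      have hw0 : π w = 0 := RingHom.mem_ker.mp (hF ▸ Ideal.subset_span hw)
      change (Algebra.TensorProduct.basis D b).repr (φ (π w)) k = 0
      rw [hw0, map_zero, map_zero, Finsupp.zero_apply]
    let θ : RA →ₐ[A] D := Ideal.Quotient.liftₐ _ θ₁ hker
    have hθx : ∀ p, θ (x p) = v p := fun p => hθX p
    refine ⟨θ, RingHom.ext fun c => ?_, fun θ' hθ' => ?_⟩
    · obtain ⟨z, rfl⟩ : ∃ z, π z = c := ⟨_, hs c⟩
      rw [RingHom.comp_apply, huπ]
      refine (RingHom.congr_fun (evCoord_comp A A' b x θ) z).trans ?_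
      simp only [hθx]
      exact (RingHom.congr_fun hφπ z).symm
    · refine Ideal.Quotient.algHom_ext _ (MvPolynomial.algHom_ext fun p => ?_)
      change θ' (x p) = θ (x p)
      rw [hθx]
      have h1 : Algebra.TensorProduct.map θ' (AlgHom.id A A') (evCoord b x (X p.1)) = φ (π (X p.1)) := by
        rw [← huπ]; exact RingHom.congr_fun hθ' _
      have h2 := congrArg (fun z => bD.repr z p.2) h1
      simp only [bD, coeff_map] at h2
      rw [show v p = (Algebra.TensorProduct.basis D b).repr (φ (π (X p.1))) p.2 from rfl, ← h2]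
      congr 1
      simp [evCoord, Finsupp.single_apply]
  · exact Algebra.FiniteType.of_surjective q (Ideal.Quotient.mk_surjective)
  · have : Finite F := hFf.to_subtype
    exact Algebra.FinitePresentation.quotient (Submodule.fg_span (Set.finite_range _))

end Groth.Agent.H21Weil
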