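import Groth.Agent.H21Weil.Rep
import Groth.Agent.H21Diag.WeilFinite
import Groth.Prelude.Def_AutFam

/-!
Schemes of morphisms and of homomorphisms out of finite flat schemes into affine ones.
-/

universe u

open CategoryTheory MonoidalCategory CartesianMonoidalCategory MonObj GrpObj AlgebraicGeometry
open CategoryTheory.Limits

set_option backward.isDefEq.respectTransparency false
set_option backward.isDefEq.respectTransparency.types false

namespace Groth.Agent.H21Weil

variable {S : Scheme.{u}}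

/-- the product with `X` is the base change along `X` -/
noncomputable def tensorBcIso (X T : Over S) : X ⊗ T ≅ (Over.map X.hom).obj ((Over.pullback X.hom).obj T) :=
  Over.isoMk (pullbackSymmetry X.hom T.hom) (by
    change (pullbackSymmetry X.hom T.hom).hom ≫ pullback.snd T.hom X.hom ≫ X.hom = pullback.fst X.hom T.hom ≫ X.hom
    rw [pullbackSymmetry_hom_comp_snd_assoc])

theorem tensorBcIso_natural (X : Over S) {T T' : Over S} (v : T' ⟶ T) :
    (X ◁ v) ≫ (tensorBcIso X T).hom =
      (tensorBcIso X T').hom ≫ (Over.map X.hom).map ((Over.pullback X.hom).map v) := by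
  refine Over.OverMorphism.ext (pullback.hom_ext ?_ ?_)
  · change ((X ◁ v).left ≫ (pullbackSymmetry X.hom T.hom).hom) ≫ pullback.fst T.hom X.hom =
      ((pullbackSymmetry X.hom T'.hom).hom ≫ ((Over.pullback X.hom).map v).left) ≫ pullback.fst T.hom X.hom
    rw [Category.assoc, Category.assoc, pullbackSymmetry_hom_comp_fst,
      show ((Over.pullback X.hom).map v).left ≫ pullback.fst T.hom X.hom = pullback.fst T'.hom X.hom ≫ v.left from
        pullback.lift_fst _ _ _, pullbackSymmetry_hom_comp_fst_assoc]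
    exact congrArg (fun m => m.left) (whiskerLeft_snd X v)
  · change ((X ◁ v).left ≫ (pullbackSymmetry X.hom T.hom).hom) ≫ pullback.snd T.hom X.hom =
      ((pullbackSymmetry X.hom T'.hom).hom ≫ ((Over.pullback X.hom).map v).left) ≫ pullback.snd T.hom X.hom
    rw [Category.assoc, Category.assoc, pullbackSymmetry_hom_comp_snd,
      show ((Over.pullback X.hom).map v).left ≫ pullback.snd T.hom X.hom = pullback.snd T'.hom X.hom from
        pullback.lift_snd _ _ _, pullbackSymmetry_hom_comp_snd]
    exact congrArg (fun m => m.left) (whiskerLeft_fst X v)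

/-- the scheme of morphisms from a finite flat scheme to an affine one -/
theorem exists_mapScheme (X Y : Over S) [IsFinite X.hom] [Flat X.hom] [LocallyOfFinitePresentation X.hom]
    [IsAffineHom Y.hom] :
    ∃ (M : Over S) (ev : X ⊗ M ⟶ Y), IsAffineHom M.hom ∧ (LocallyOfFiniteType Y.hom → LocallyOfFiniteType M.hom) ∧
      (LocallyOfFinitePresentation Y.hom → LocallyOfFinitePresentation M.hom) ∧
      ∀ (T : Over S) (φ : X ⊗ T ⟶ Y), ∃! v : T ⟶ M, (X ◁ v) ≫ ev = φ := by
  obtain ⟨M, u, hM, hu⟩ := exists_isWeil_pullback (s := X.hom) Y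
  have : IsAffineHom ((Over.pullback X.hom).obj Y).hom :=
    MorphismProperty.pullback_snd (P := @IsAffineHom) _ _ inferInstance
  obtain ⟨-, hft, hfp⟩ := hu.props
  let adj := Over.mapPullbackAdj X.hom
  refine ⟨M, (tensorBcIso X M).hom ≫ (adj.homEquiv _ _).symm u, hM,
    fun h => hft (MorphismProperty.pullback_snd (P := @LocallyOfFiniteType) _ _ h),
    fun h => hfp (MorphismProperty.pullback_snd (P := @LocallyOfFinitePresentation) _ _ h), fun T φ => ?_⟩
  have key : ∀ v : T ⟶ M, (X ◁ v) ≫ (tensorBcIso X M).hom ≫ (adj.homEquiv _ _).symm u =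
      (tensorBcIso X T).hom ≫ (adj.homEquiv _ _).symm ((Over.pullback X.hom).map v ≫ u) := fun v => by
    rw [← Category.assoc, tensorBcIso_natural, Category.assoc, ← Adjunction.homEquiv_naturality_left_symm]
  obtain ⟨v, hv⟩ := (hu T).2 (adj.homEquiv _ _ ((tensorBcIso X T).inv ≫ φ))
  simp only at hv
  refine ⟨v, ?_, fun v' hv' => (hu T).1 ?_⟩
  · simp only
    rw [key, hv, Equiv.symm_apply_apply, Iso.hom_inv_id_assoc]
  · simp only at hv' ⊢
    rw [key] at hv'
    rw [hv, ← hv', Iso.inv_hom_id_assoc, Equiv.apply_symm_apply]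

/-- the scheme of homomorphisms from a finite flat group to an affine one -/
theorem exists_homScheme (G G' : Over S) [GrpObj G] [GrpObj G'] [IsFinite G.hom] [Flat G.hom]
    [LocallyOfFinitePresentation G.hom] [IsAffineHom G'.hom] :
    ∃ (A : Over S) (υ : G ⊗ A ⟶ G'), AutFam.RepresentsHom G G' A υ ∧ IsAffineHom A.hom ∧
      (LocallyOfFiniteType G'.hom → LocallyOfFiniteType A.hom) ∧
      (LocallyOfFinitePresentation G'.hom → LocallyOfFinitePresentation A.hom) := by
  obtain ⟨M, ev, hM, hft, hfp, huniv⟩ := exists_mapScheme G G'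
  let P := G ⊗ G
  have : IsFinite P.hom := (inferInstance : IsFinite (pullback.fst G.hom G.hom ≫ G.hom))
  have : Flat P.hom := (inferInstance : Flat (pullback.fst G.hom G.hom ≫ G.hom))
  have : LocallyOfFinitePresentation P.hom :=
    (inferInstance : LocallyOfFinitePresentation (pullback.fst G.hom G.hom ≫ G.hom))
  let g₁ : P ⊗ M ⟶ G := fst P M ≫ fst G G
  let g₂ : P ⊗ M ⟶ G := fst P M ≫ snd G G
  obtain ⟨A, j, hj, hjfp, hiff⟩ := H21Diag.exists_equalizer_finite (Y := P) (T := M) (W := G')
    (lift (g₁ * g₂) (snd P M) ≫ ev) ((lift g₁ (snd P M) ≫ ev) * (lift g₂ (snd P M) ≫ ev))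
  have hmem : ∀ (T : Over S) (m : T ⟶ M), (∃ z, z ≫ j = m) ↔
      AutFam.IsHomFamily G G' ((G ◁ m) ≫ ev) := by
    intro T m
    rw [hiff]
    have e1 : ∀ {X' : Over S} (x : X' ⟶ T) (h : X' ⟶ P),
        lift h (x ≫ m) ≫ lift (g₁ * g₂) (snd P M) ≫ ev =
          lift ((h ≫ fst G G) * (h ≫ snd G G)) x ≫ (G ◁ m) ≫ ev := by
      intro X' x h
      simp only [g₁, g₂, comp_lift_assoc, MonObj.comp_mul, lift_fst_assoc, lift_snd, lift_whiskerLeft_assoc]
    have e2 : ∀ {X' : Over S} (x : X' ⟶ T) (h : X' ⟶ P),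
        lift h (x ≫ m) ≫ ((lift g₁ (snd P M) ≫ ev) * (lift g₂ (snd P M) ≫ ev)) =
          (lift (h ≫ fst G G) x ≫ (G ◁ m) ≫ ev) * (lift (h ≫ snd G G) x ≫ (G ◁ m) ≫ ev) := by
      intro X' x h
      simp only [g₁, g₂, MonObj.comp_mul, comp_lift_assoc, lift_fst_assoc, lift_snd, lift_whiskerLeft_assoc]
    constructor
    · intro hall X a b t
      have := hall X t (lift a b)
      rw [e1, e2, lift_fst, lift_snd] at this
      exact this
    · intro hall X' x h
      rw [e1, e2]
      exact hall X' _ _ x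
  have : Mono j := Over.mono_of_mono_left _
  refine ⟨A, (G ◁ j) ≫ ev, ⟨(hmem A j).mp ⟨𝟙 A, Category.id_comp j⟩, fun T φ hφ => ?_⟩, ?_, fun h => ?_, fun h => ?_⟩
  · obtain ⟨v, hv, hv'⟩ := huniv T φ
    obtain ⟨z, rfl⟩ := (hmem T v).mpr (hv ▸ hφ)
    refine ⟨z, ?_, fun z' hz' => ?_⟩
    · simp only [← MonoidalCategory.whiskerLeft_comp_assoc]
      exact hv
    · rw [← cancel_mono j]
      refine hv' _ ?_
      simp only [MonoidalCategory.whiskerLeft_comp, Category.assoc]
      exact hz'
  · rw [← Over.w j]; infer_instance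
  · have := hft h
    rw [← Over.w j]; infer_instance
  · have := hfp h
    have : LocallyOfFiniteType G'.hom := inferInstance
    have := hjfp this
    rw [← Over.w j]; infer_instance

end Groth.Agent.H21Weil
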