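import Groth.Agent.H21Weil.Alg
import Groth.Agent.H8Props.WeilRes.Affine

/-!
Weil restriction of an affine scheme along a finite free algebra, with its finiteness properties.
-/

universe u

open CategoryTheory AlgebraicGeometry
open CategoryTheory.Limits
open scoped TensorProduct
open Groth.Agent.H8Props.WeilRes

set_option backward.isDefEq.respectTransparency false
set_option backward.isDefEq.respectTransparency.types false

namespace Groth.Agent.H21Weil

section

variable {A : Type u} [CommRing A]

/-- the structure map of the global sections of a scheme over an affine base -/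
noncomputable def structHom (T : Over (Spec (CommRingCat.of A))) : A →+* Γ(T.left, ⊤) :=
  T.hom.appTop.hom.comp (Scheme.ΓSpecIso (CommRingCat.of A)).inv.hom

/-- the algebra structure on the global sections of a scheme over an affine base -/
@[reducible] noncomputable def algTop (T : Over (Spec (CommRingCat.of A))) : Algebra A Γ(T.left, ⊤) :=
  (structHom T).toAlgebra

theorem structHom_comp {T' T : Over (Spec (CommRingCat.of A))} (h : T' ⟶ T) :
    h.left.appTop.hom.comp (structHom T) = structHom T' := by
  refine RingHom.ext fun a => ?_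
  change (T.hom.appTop ≫ h.left.appTop) ((Scheme.ΓSpecIso (CommRingCat.of A)).inv a) = _
  rw [← Scheme.Hom.comp_appTop, Over.w h]
  rfl

theorem ext_structHom {A : Type u} [CommRing A] {T : Scheme.{u}} {f g : T ⟶ Spec (CommRingCat.of A)}
    (h : ∀ a, f.appTop ((Scheme.ΓSpecIso (CommRingCat.of A)).inv a) =
      g.appTop ((Scheme.ΓSpecIso (CommRingCat.of A)).inv a)) : f = g := by
  refine ext_of_isAffine ?_
  ext x
  have := h ((Scheme.ΓSpecIso (CommRingCat.of A)).hom x)
  rwa [show (Scheme.ΓSpecIso (CommRingCat.of A)).inv ((Scheme.ΓSpecIso (CommRingCat.of A)).hom x) = x from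
    ConcreteCategory.congr_hom (Scheme.ΓSpecIso _).hom_inv_id x] at this

end

variable {A A' : Type u} [CommRing A] [CommRing A'] [Algebra A A']

/-- base change along a finite algebra -/
noncomputable abbrev bcs (A A' : Type u) [CommRing A] [CommRing A'] [Algebra A A'] :
    Over (Spec (CommRingCat.of A)) ⥤ Over (Spec (CommRingCat.of A')) :=
  Over.pullback (Spec.map (CommRingCat.ofHom (algebraMap A A')))

/-- pull back of functions along the projection -/
noncomputable def fstTop (T : Over (Spec (CommRingCat.of A))) : Γ(T.left, ⊤) →+* Γ(((bcs A A').obj T).left, ⊤) :=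
  (pullback.fst T.hom (Spec.map (CommRingCat.ofHom (algebraMap A A')))).appTop.hom

/-- the comparison map to the global sections of a base change -/
theorem exists_gammaMap {ι : Type u} [Fintype ι] (b : Module.Basis ι A A') (T : Over (Spec (CommRingCat.of A))) :
    letI := algTop T
    ∃ μ : Γ(T.left, ⊤) ⊗[A] A' →+* Γ(((bcs A A').obj T).left, ⊤), Function.Bijective μ ∧
      ∀ γ a, μ (γ ⊗ₜ a) = fstTop T γ * structHom ((bcs A A').obj T) a := by
  letI := algTop T
  let s := Spec.map (CommRingCat.ofHom (algebraMap A A'))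
  let p := pullback.fst T.hom s
  let Q := (bcs A A').obj T
  let i₁ : Γ(T.left, ⊤) →+* Γ(Q.left, ⊤) := p.appTop.hom
  let i₂ : A' →+* Γ(Q.left, ⊤) := structHom Q
  have hcomm : ∀ a : A, i₁ (algebraMap A Γ(T.left, ⊤) a) = i₂ (algebraMap A A' a) := by
    intro a
    change (T.hom.appTop ≫ p.appTop) ((Scheme.ΓSpecIso (CommRingCat.of A)).inv a) =
      (pullback.snd T.hom s).appTop (((CommRingCat.ofHom (algebraMap A A')) ≫ (Scheme.ΓSpecIso (CommRingCat.of A')).inv) a)
    rw [Scheme.ΓSpecIso_inv_naturality, ← Scheme.Hom.comp_appTop, pullback.condition, Scheme.Hom.comp_appTop]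
    rfl
  letI : Algebra A Γ(Q.left, ⊤) := (i₂.comp (algebraMap A A')).toAlgebra
  let f₁ : Γ(T.left, ⊤) →ₐ[A] Γ(Q.left, ⊤) := { i₁ with commutes' := hcomm }
  let f₂ : A' →ₐ[A] Γ(Q.left, ⊤) := { i₂ with commutes' := fun a => rfl }
  let μ := Algebra.TensorProduct.productMap f₁ f₂
  refine ⟨μ.toRingHom, ?_, fun γ a => Algebra.TensorProduct.productMap_apply_tmul f₁ f₂ γ a⟩
  let e : ι → Γ(Spec (CommRingCat.of A'), ⊤) := fun i => (Scheme.ΓSpecIso (CommRingCat.of A')).inv (b i)
  have he : Function.Bijective fun r : ι → Γ(Spec (CommRingCat.of A), ⊤) => ∑ i, s.appTop (r i) * e i := by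
    let α := (Scheme.ΓSpecIso (CommRingCat.of A)).commRingCatIsoToRingEquiv
    let α' := (Scheme.ΓSpecIso (CommRingCat.of A')).commRingCatIsoToRingEquiv
    have hbase : Function.Bijective fun r : ι → A => ∑ i, algebraMap A A' (r i) * b i := by
      convert b.equivFun.symm.bijective using 1
      funext r
      rw [Module.Basis.equivFun_symm_apply]
      exact Finset.sum_congr rfl fun i _ => (Algebra.smul_def _ _).symm
    have h1 : (fun r : ι → Γ(Spec (CommRingCat.of A), ⊤) => ∑ i, s.appTop (r i) * e i) =
        (α'.symm : _ → _) ∘ (fun r : ι → A => ∑ i, algebraMap A A' (r i) * b i) ∘ fun r i => α (r i) := by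
      funext r
      simp only [Function.comp_apply, map_sum, map_mul]
      refine Finset.sum_congr rfl fun i _ => ?_
      congr 1
      change s.appTop (r i) = (CommRingCat.ofHom (algebraMap A A') ≫ (Scheme.ΓSpecIso (CommRingCat.of A')).inv)
        ((Scheme.ΓSpecIso (CommRingCat.of A)).hom (r i))
      rw [Scheme.ΓSpecIso_inv_naturality, ConcreteCategory.comp_apply]
      exact congrArg s.appTop (ConcreteCategory.congr_hom (Scheme.ΓSpecIso (CommRingCat.of A)).hom_inv_id (r i)).symm
    rw [h1]
    exact α'.symm.bijective.comp (hbase.comp (Function.Bijective.piMap fun _ => α.bijective))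
  have hb := bijective_coord (IsPullback.of_hasPullback T.hom s) e he
  let bT := Algebra.TensorProduct.basis Γ(T.left, ⊤) b
  have h2 : (fun γ : ι → Γ(T.left, ⊤) => coord (pullback.fst T.hom s) (pullback.snd T.hom s) e γ) =
      (μ : _ → _) ∘ (bT.equivFun.symm : _ → _) := by
    funext γ
    simp only [Function.comp_apply, Module.Basis.equivFun_symm_apply, map_sum]
    unfold coord
    refine Finset.sum_congr rfl fun i _ => ?_
    rw [show γ i • bT i = γ i ⊗ₜ[A] b i by simp [bT, TensorProduct.smul_tmul'],
      Algebra.TensorProduct.productMap_apply_tmul]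
    rfl
  have hb' : Function.Bijective ((μ : _ → _) ∘ (bT.equivFun.symm : _ → _)) := h2 ▸ hb
  have h3 : (μ : _ → _) = ((μ : _ → _) ∘ (bT.equivFun.symm : _ → _)) ∘ (bT.equivFun : _ → _) := by
    funext z; simp
  rw [show (μ.toRingHom : _ → _) = ((μ : _ → _) ∘ (bT.equivFun.symm : _ → _)) ∘ (bT.equivFun : _ → _) from h3]
  exact hb'.comp bT.equivFun.bijective

/-- Weil restriction of an affine scheme along a finite free algebra -/
theorem exists_weil {ι : Type u} [Finite ι] (b : Module.Basis ι A A') (X' : Over (Spec (CommRingCat.of A')))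
    [IsAffine X'.left] :
    ∃ (W : Over (Spec (CommRingCat.of A))) (u : (bcs A A').obj W ⟶ X'), IsAffine W.left ∧
      (LocallyOfFiniteType X'.hom → LocallyOfFiniteType W.hom) ∧
      (LocallyOfFinitePresentation X'.hom → LocallyOfFinitePresentation W.hom) ∧
      ∀ T : Over (Spec (CommRingCat.of A)), Function.Bijective fun h : T ⟶ W => (bcs A A').map h ≫ u := by
  classical
  have : Fintype ι := Fintype.ofFinite ι
  letI := algTop X'
  obtain ⟨RA, i₁, i₂, u₀, hu₀, huniv, hft, hfp⟩ := exists_adjoint A A' Γ(X'.left, ⊤) b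
  let W : Over (Spec (CommRingCat.of A)) :=
    Over.mk (Y := Spec (CommRingCat.of RA)) (Spec.map (CommRingCat.ofHom (algebraMap A RA)))
  haveI : IsAffine W.left := inferInstanceAs (IsAffine (Spec _))
  choose μ hμ hμt using fun T : Over (Spec (CommRingCat.of A)) => exists_gammaMap b T
  -- naturality
  have hnat : ∀ {T' T : Over (Spec (CommRingCat.of A))} (h : T' ⟶ T),
      letI := algTop T; letI := algTop T'
      ∀ (hh : Γ(T.left, ⊤) →ₐ[A] Γ(T'.left, ⊤)), (∀ γ, hh γ = h.left.appTop γ) → ∀ z,
      ((bcs A A').map h).left.appTop (μ T z) = μ T' (Algebra.TensorProduct.map hh (AlgHom.id A A') z) := by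
    intro T' T h
    letI := algTop T; letI := algTop T'
    intro hh hhh z
    induction z using TensorProduct.induction_on with
    | zero => rw [map_zero, map_zero, map_zero, map_zero]
    | add z z' hz hz' => rw [map_add, map_add, hz, hz', map_add, map_add]
    | tmul γ a =>
      rw [Algebra.TensorProduct.map_tmul, hμt, hμt, map_mul, hhh]
      congr 1
      · refine (ConcreteCategory.congr_hom (Scheme.Hom.comp_appTop _ _) γ).symm.trans ?_
        refine Eq.trans ?_ (ConcreteCategory.congr_hom (Scheme.Hom.comp_appTop _ _) γ)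
        exact congrArg (fun m : _ ⟶ T.left => m.appTop γ) (pullback.lift_fst _ _ _)
      · exact RingHom.congr_fun (structHom_comp ((bcs A A').map h)) a
  letI := algTop W
  let κ : RA →ₐ[A] Γ(W.left, ⊤) :=
    { (Scheme.ΓSpecIso (CommRingCat.of RA)).inv.hom with
      commutes' := fun a =>
        ConcreteCategory.congr_hom (Scheme.ΓSpecIso_inv_naturality (CommRingCat.ofHom (algebraMap A RA))) a }
  let uR : Γ(X'.left, ⊤) →+* Γ(((bcs A A').obj W).left, ⊤) :=
    (μ W).comp ((Algebra.TensorProduct.map κ (AlgHom.id A A')).toRingHom.comp u₀)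
  let u : (bcs A A').obj W ⟶ X' := Over.homMk (toAffine (CommRingCat.ofHom uR)) (ext_structHom fun a => by
    rw [Scheme.Hom.comp_appTop, appTop_toAffine]
    change uR (algebraMap A' Γ(X'.left, ⊤) a) = structHom ((bcs A A').obj W) a
    simp only [uR, RingHom.comp_apply, hu₀ a]
    change μ W (Algebra.TensorProduct.map κ (AlgHom.id A A') (1 ⊗ₜ a)) = _
    rw [Algebra.TensorProduct.map_tmul, map_one, hμt, map_one, one_mul]
    rfl)
  refine ⟨W, u, inferInstanceAs (IsAffine (Spec _)), fun h => ?_, fun h => ?_, fun T => ⟨fun h h' hh => ?_, fun f => ?_⟩⟩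
  · have h1 : X'.hom.appTop.hom.FiniteType := HasRingHomProperty.appTop (P := @LocallyOfFiniteType) _ h
    have : Algebra.FiniteType A' Γ(X'.left, ⊤) :=
      h1.comp (RingHom.FiniteType.of_surjective _ ((Scheme.ΓSpecIso (CommRingCat.of A')).commRingCatIsoToRingEquiv.symm.surjective))
    exact (HasRingHomProperty.Spec_iff (P := @LocallyOfFiniteType)).mpr (RingHom.finiteType_algebraMap.mpr (hft this))
  · have h1 : X'.hom.appTop.hom.FinitePresentation := HasRingHomProperty.appTop (P := @LocallyOfFinitePresentation) _ h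
    have : Algebra.FinitePresentation A' Γ(X'.left, ⊤) :=
      h1.comp (RingHom.FinitePresentation.of_bijective (Scheme.ΓSpecIso (CommRingCat.of A')).commRingCatIsoToRingEquiv.symm.bijective)
    exact (LocallyOfFinitePresentation.SpecMap_iff _).mpr (RingHom.finitePresentation_algebraMap.mpr (hfp this))
  all_goals letI := algTop T
  · let th : (T ⟶ W) → (RA →ₐ[A] Γ(T.left, ⊤)) := fun h =>
      { h.left.appTop.hom.comp κ.toRingHom with
        commutes' := fun a => by
          change h.left.appTop (κ (algebraMap A RA a)) = _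
          rw [κ.commutes]
          exact RingHom.congr_fun (structHom_comp h) a }
    have key : ∀ k : T ⟶ W, ∀ c, ((bcs A A').map k ≫ u).left.appTop c =
        μ T (Algebra.TensorProduct.map (th k) (AlgHom.id A A') (u₀ c)) := by
      intro k c
      let kh : Γ(W.left, ⊤) →ₐ[A] Γ(T.left, ⊤) :=
        { k.left.appTop.hom with commutes' := fun a => RingHom.congr_fun (structHom_comp k) a }
      rw [Over.comp_left, Scheme.Hom.comp_appTop, ConcreteCategory.comp_apply]
      change ((bcs A A').map k).left.appTop ((toAffine (CommRingCat.ofHom uR)).appTop c) = _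
      rw [appTop_toAffine]
      change ((bcs A A').map k).left.appTop (μ W (Algebra.TensorProduct.map κ (AlgHom.id A A') (u₀ c))) = _
      rw [hnat k kh (fun γ => rfl)]
      refine congrArg (μ T) ((RingHom.congr_fun (f := ((Algebra.TensorProduct.map kh (AlgHom.id A A')).comp
        (Algebra.TensorProduct.map κ (AlgHom.id A A'))).toRingHom) ?_ (u₀ c)))
      rw [← Algebra.TensorProduct.map_comp]
      rfl
    have hpt : IsPt A A' Γ(X'.left, ⊤)
        ((Algebra.TensorProduct.map (th h) (AlgHom.id A A')).toRingHom.comp u₀) := fun a => by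
      rw [RingHom.comp_apply, hu₀ a]
      simp
    have heq : th h = th h' := (huniv _ _ hpt).unique rfl (RingHom.ext fun c => (hμ T).1 (by
      refine (key h' c).symm.trans (Eq.trans ?_ (key h c))
      exact congrArg (fun m : (bcs A A').obj T ⟶ X' => m.left.appTop c) hh.symm))
    refine Over.OverMorphism.ext (ext_of_isAffine ?_)
    ext x
    obtain ⟨r, rfl⟩ := (Scheme.ΓSpecIso (CommRingCat.of RA)).commRingCatIsoToRingEquiv.symm.surjective x
    exact AlgHom.congr_fun heq r
  · let eμ := RingEquiv.ofBijective (μ T) (hμ T)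
    let φ : Γ(X'.left, ⊤) →+* Γ(T.left, ⊤) ⊗[A] A' := eμ.symm.toRingHom.comp f.left.appTop.hom
    obtain ⟨θ, hθ, -⟩ := huniv _ φ (fun a => by
      refine (hμ T).1 ((eμ.apply_symm_apply _).trans ?_)
      rw [hμt, map_one, one_mul]
      exact RingHom.congr_fun (structHom_comp f) a)
    let k : T ⟶ W := Over.homMk (toAffine (X := Spec (CommRingCat.of RA))
      ((Scheme.ΓSpecIso (CommRingCat.of RA)).hom ≫ CommRingCat.ofHom θ.toRingHom)) (ext_structHom fun a => by
        rw [Scheme.Hom.comp_appTop, appTop_toAffine]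
        change θ ((Scheme.ΓSpecIso (CommRingCat.of RA)).hom (structHom W a)) = structHom T a
        rw [show structHom W a = κ (algebraMap A RA a) from (κ.commutes a).symm]
        refine (congrArg θ ?_).trans (θ.commutes a)
        exact ConcreteCategory.congr_hom (Scheme.ΓSpecIso (CommRingCat.of RA)).inv_hom_id _)
    let kh : Γ(W.left, ⊤) →ₐ[A] Γ(T.left, ⊤) :=
      { k.left.appTop.hom with commutes' := fun a => RingHom.congr_fun (structHom_comp k) a }
    have hcomp : kh.comp κ = θ := AlgHom.ext fun r => by
      change (toAffine (X := Spec (CommRingCat.of RA)) _).appTop (κ r) = θ r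
      rw [appTop_toAffine]
      exact congrArg θ (ConcreteCategory.congr_hom (Scheme.ΓSpecIso (CommRingCat.of RA)).inv_hom_id r)
    refine ⟨k, Over.OverMorphism.ext (ext_of_isAffine ?_)⟩
    ext c
    rw [Over.comp_left, Scheme.Hom.comp_appTop, ConcreteCategory.comp_apply]
    change ((bcs A A').map k).left.appTop ((toAffine (CommRingCat.ofHom uR)).appTop c) = _
    rw [appTop_toAffine]
    change ((bcs A A').map k).left.appTop (μ W (Algebra.TensorProduct.map κ (AlgHom.id A A') (u₀ c))) = _
    rw [hnat k kh (fun γ => rfl)]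
    refine (congrArg (μ T) ?_).trans (eμ.apply_symm_apply (f.left.appTop c))
    refine Eq.trans ?_ (RingHom.congr_fun hθ c)
    rw [← hcomp]
    exact (AlgHom.congr_fun (Algebra.TensorProduct.map_comp kh κ (AlgHom.id A A') (AlgHom.id A A')) (u₀ c)).symm

end Groth.Agent.H21Weil
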